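import Mathlib
import Cfsg.Agent.H02.PT2
import Cfsg.Agent.H03.NPC3
import Cfsg.Agent.H27.Kazarin
import Cfsg.Agent.H27.ClassGraph
import Cfsg.Agent.H27.Kegel
import Cfsg.Agent.H05.Burnside

/-!
# Class sizes: tools
* `PE l x` : `x` is an `l`-element; `NC l G` : a noncentral `l`-element exists.
* `axb`, `gam`, `hh` : an abelian Hall subgroup of many centralisers has at most one prime in its index.
* `pq`, `nil_of_pe` : the `P × Q` argument.
-/

set_option linter.unusedSectionVars false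
set_option linter.unusedVariables false
set_option linter.style.haveILetI false

namespace H02.CZ

open Cfsg BG MulAction Subgroup H02.PT
open H27 (cs)
open scoped commutatorElement Pointwise IsMulCommutative

local notation "#" => Nat.card

variable {G : Type*} [Group G] [Finite G] {p q r s t l : ℕ} {x y g : G}

abbrev PE (l : ℕ) (x : G) : Prop := IsPGroup l (zpowers x)

def NC (l : ℕ) (G : Type*) [Group G] : Prop := ∃ g : G, g ∉ center G ∧ PE l g

theorem pe_of_mem {P : Subgroup G} (hP : IsPGroup l P) (hx : x ∈ P) : PE l x := pg_le hP (zpowers_le.2 hx)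

theorem PE.ord (h : PE l x) (hl : l.Prime) : ∃ k, orderOf x = l ^ k := by
  simpa only [BG.card_zpowers] using pg_card hl h

theorem pe_of_ord {k : ℕ} (h : orderOf x = l ^ k) : PE l x := pg_of_card (by rwa [BG.card_zpowers])

theorem pe_of_prime (h : orderOf x = l) : PE l x := pe_of_ord (k := 1) (by simpa)

theorem PE.not_dvd (h : PE l x) (hl : l.Prime) (hp : p.Prime) (ne : p ≠ l) : ¬ p ∣ orderOf x := by
  simpa only [BG.card_zpowers] using pg_not_dvd hp hl h ne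

theorem PE.cop' (h : PE l x) (hl : l.Prime) (hy : ¬ l ∣ orderOf y) : (orderOf x).Coprime (orderOf y) := by
  obtain ⟨k, e⟩ := h.ord hl
  exact e ▸ ((hl.coprime_iff_not_dvd).2 hy).pow_left k

theorem PE.cop (h : PE l x) (hl : l.Prime) (h' : PE p y) (hp : p.Prime) (ne : l ≠ p) :
    (orderOf x).Coprime (orderOf y) := h.cop' hl (h'.not_dvd hp hl ne)

theorem PE.map {H : Type*} [Group H] (h : PE l x) (f : G →* H) : PE l (f x) := by
  have := IsPGroup.map h f
  rwa [MonoidHom.map_zpowers] at this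

theorem PE.conj (h : PE l x) (g : G) : PE l (g * x * g⁻¹) := h.map (MulAut.conj g).toMonoidHom

theorem PE.inv (h : PE l x) : PE l x⁻¹ := pe_of_mem h (inv_mem (mem_zpowers x))

theorem PE.mul (h : PE l x) (h' : PE l y) (e : x * y = y * x) : PE l (x * y) :=
  pe_of_mem (pg_sup h h' (le_norm_of_cent (by rw [cent_zpowers, zpowers_le, mem_cent1, e])))
    (mul_mem (mem_sup_left (mem_zpowers x)) (mem_sup_right (mem_zpowers y)))

theorem pe_coe {H : Subgroup G} {x : H} (hl : l.Prime) : PE l (x : G) ↔ PE l x :=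
  ⟨fun h => (h.ord hl).elim fun k e => pe_of_ord (by rwa [orderOf_coe] at e), fun h => h.map H.subtype⟩

theorem PE.eq_one (h : PE l x) (hl : l.Prime) (h' : ¬ l ∣ orderOf x) : x = 1 :=
  orderOf_eq_one_iff.1 (Nat.coprime_self _ |>.1 (h.cop' hl h'))

theorem PE.dvd (h : PE l x) (hl : l.Prime) (h' : x ≠ 1) : l ∣ orderOf x := by_contra fun e => h' (h.eq_one hl e)

theorem PE.pi (h : PE l x) (hl : l.Prime) {π : Set ℕ} (h' : l ∈ π) : IsPiElt π x := isPiElt_iff.2 (isPi_of_pg hl h h')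

theorem not_dvd_idx (hl : l.Prime) {A B : Subgroup G} (h : ∀ g ∈ B, PE l g → g ∈ A) : ¬ l ∣ A.relIndex B := fun e => by
  obtain ⟨P, hP⟩ := sylow_exists hl B
  exact hP.not_dvd' hl (e.trans (relIndex_dvd_left _ fun g hg => h g (hP.le hg) (pe_of_mem (hP.pg hl) hg)))

theorem exists_pe (hl : l.Prime) {A B : Subgroup G} (h : l ∣ A.relIndex B) : ∃ g ∈ B, g ∉ A ∧ PE l g := by
  by_contra hc
  exact not_dvd_idx hl (fun g hg a => by_contra fun b => hc ⟨g, hg, b, a⟩) h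

theorem exists_pe' (hl : l.Prime) {A : Subgroup G} (h : l ∣ A.index) : ∃ g, g ∉ A ∧ PE l g :=
  (exists_pe hl (B := ⊤) (by rwa [relIndex_top_right])).imp fun _ h => h.2

theorem le_of_pe {H K : Subgroup G} (h : ∀ l, l.Prime → ∀ x ∈ H, PE l x → x ∈ K) : H ≤ K :=
  le_of_sylows fun l hl _ => (sylow_exists hl H).imp fun P hP => ⟨hP, fun x hx => h l hl x (hP.le hx) (pe_of_mem (hP.pg hl) hx)⟩

theorem exists_pe_zp {K : Subgroup G} (hx : x ∉ K) : ∃ l, l.Prime ∧ l ∣ orderOf x ∧ ∃ y ∈ zpowers x, y ∉ K ∧ PE l y := by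
  by_contra hc
  refine hx (le_of_pe (H := zpowers x) (fun l hl y hy a => by_contra fun b => hc ⟨l, hl, ?_, y, hy, b, a⟩) (mem_zpowers x))
  exact (a.dvd hl fun e => b (e ▸ one_mem _)).trans (orderOf_dvd_of_mem_zpowers hy)

theorem pow_of_primes (hp : p.Prime) {n : ℕ} (h0 : n ≠ 0) (h : ∀ l, l.Prime → l ∣ n → l = p) : ∃ k, n = p ^ k :=
  ⟨_, Nat.eq_prime_pow_of_unique_prime_dvd h0 fun a b => h _ a b⟩

theorem sylow_eq (hl : l.Prime) {L D X : Subgroup G} (hL : IsSylowIn l L D) (hX : IsPGroup l X) (h : L ≤ X) {n : ℕ}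
    (hd : # X ∣ # D * n) (hn : ¬ l ∣ n) : X = L := by
  obtain ⟨k, e⟩ := pg_card hl hX
  rw [← card_mul_relIndex hL.le, mul_assoc, e] at hd
  have := (Nat.Coprime.pow_left k ((hl.coprime_iff_not_dvd).2 fun a =>
    (hl.dvd_mul.1 a).elim (hL.not_dvd' hl) hn)).dvd_of_dvd_mul_right hd
  exact (eq_of_le_of_card_ge h (e ▸ Nat.le_of_dvd Nat.card_pos this)).symm

theorem card_dvd_of_cs {n : ℕ} (h : cs y ∣ cs x * n) : # C_[x] ∣ # C_[y] * n := by
  refine Nat.dvd_of_mul_dvd_mul_left (H27.cs_pos x) ?_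
  rw [H27.cs_mul_card_cent, ← H27.cs_mul_card_cent y, mul_left_comm, mul_comm (cs y)]
  exact Nat.mul_dvd_mul_left _ h

theorem cent_eq (h : C_[x] ≤ C_[y]) (e : cs x ∣ cs y) : C_[x] = C_[y] :=
  eq_of_le_of_card_ge h (Nat.le_of_dvd Nat.card_pos (by simpa using card_dvd_of_cs (n := 1) (by simpa using e)))

theorem ex_nc (hl : l.Prime) (hg : g ∉ center G) (h : PE l g) {n : ℕ} (hd : cs x ∣ cs g * n) (hn : ¬ l ∣ n) :
    ∃ c ∈ C_[x], c ∉ center G ∧ PE l c := by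
  by_contra hc
  obtain ⟨L, hL⟩ := sylow_exists hl C_[x]
  have hZ : L ≤ center G := fun c a => by_contra fun b => hc ⟨c, hL.le a, b, pe_of_mem (hL.pg hl) a⟩
  have := sylow_eq hl hL (pg_sup (hL.pg hl) h (le_norm_of_cent (cent_symm fun a ha b _ => mem_center_iff.1 (hZ ha) b)))
    le_sup_left ((BG.card_dvd (sup_le (hZ.trans (H27.center_le_cent g)) (zpowers_le_cent1 g))).trans (card_dvd_of_cs hd)) hn
  exact hg (hZ (this ▸ mem_sup_right (mem_zpowers g)))

theorem nc_of_dvd (hl : l.Prime) (h : l ∣ cs x) : NC l G := by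
  exact exists_pe' hl (h.trans (H27.cs_dvd_index_center x))

theorem NC.exists_dvd (h : NC l G) (hl : l.Prime) : ∃ x : G, l ∣ cs x := by
  by_contra hc
  push Not at hc
  haveI := Fact.mk hl
  obtain ⟨g, a, b⟩ := h
  obtain ⟨P, hP⟩ := IsPGroup.exists_le_sylow b
  exact a (H27.sylow_le_center_of_not_dvd_cs P hc (hP (mem_zpowers g)))

theorem mul_notMem (e : x * y = y * x) (hc : (orderOf x).Coprime (orderOf y)) (hx : x ∉ center G) : x * y ∉ center G :=
  fun h => hx (zpowers_le.2 h (H27.mem_zpowers_mul_of_coprime e hc))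

theorem cs_ne_one (hx : x ∉ center G) : cs x ≠ 1 := mt H27.cs_eq_one_iff.1 hx

theorem sol_of_two (hp : p.Prime) (hq : q.Prime) (h : ∀ l, l.Prime → l ≠ p → l ≠ q → ¬ NC l G) : Group.IsSolvable G := by
  haveI := H05.isSolvable_of_prime_dvd (G ⧸ center G) hp hq fun l hl hd => by_contra fun e =>
    h l hl (fun e' => e (Or.inl e')) (fun e' => e (Or.inr e')) (exists_pe' hl hd)
  exact H02.isSolvable_of_normal_of_quotient (center G)

theorem axb {V U : Subgroup G} [V.Normal] (hA : V ≤ C_(V)) (hl : l.Prime) (hV : IsPGroup l V)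
    (hU : ¬ l ∣ (C_(V)).relIndex U) (hg : PE l g) (hn : g ∈ N_(U)) (hc : V ⊓ C_[g] ≤ C_(U)) : U ≤ C_(V) := by
  classical
  haveI := abelian_iff.2 hA
  let φ : G →* MulAut V := MulAut.conjNormal
  have hk : φ.ker = C_(V) := by
    ext a
    rw [MonoidHom.mem_ker, mem_cent]
    exact ⟨fun h v hv => (mul_inv_eq_iff_eq_mul.1 (congrArg (fun f : MulAut V => (f ⟨v, hv⟩ : G)) h)).symm,
      fun h => MulEquiv.ext fun v => Subtype.ext (mul_inv_eq_iff_eq_mul.2 (h v v.2).symm)⟩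
  haveI := Fintype.ofFinite (U.map φ)
  let τ : V →* V := ∏ u : U.map φ, (u : MulAut V).toMonoidHom
  have τa : ∀ v, τ v = ∏ u : U.map φ, (u : MulAut V) v := fun v => MonoidHom.finsetProd_apply _ _ _
  have k1 : ∀ v, τ (φ g v) = φ g (τ v) := fun v => by
    have hn' : φ g ∈ N_(U.map φ) := le_normalizer_map φ (mem_map_of_mem φ hn)
    rw [τa, τa, map_prod]
    refine (Fintype.prod_equiv ((U.map φ).normalizerMonoidHom ⟨φ g, hn'⟩).toEquiv _ _ fun u => ?_).symm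
    show _ = (φ g * (u : MulAut V) * (φ g)⁻¹) (φ g v)
    simp
  have k2 : ∀ u ∈ U, ∀ v, τ (φ u v) = τ v := fun u hu v => by
    rw [τa, τa]
    exact Fintype.prod_equiv (Equiv.mulRight ⟨φ u, mem_map_of_mem φ hu⟩) _ _ fun w => rfl
  have k3 : τ.ker.map V.subtype = ⊥ := by
    by_contra h0
    obtain ⟨⟨_, ⟨c, c1, rfl⟩, c2⟩, c3⟩ := ne_bot_iff_exists_ne_one.1 (pg_fix_ne_bot hl hg (pg_le hV (map_subtype_le _))
      (zpowers_le.2 (mem_norm_of_cj_le (by
        rintro _ ⟨_, ⟨v, hv, rfl⟩, rfl⟩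
        exact ⟨φ g v, by rw [SetLike.mem_coe, MonoidHom.mem_ker, k1, show τ v = 1 from hv, map_one], rfl⟩))) h0)
    have c4 := hc ⟨c.2, cent_zpowers g ▸ c2⟩
    have c5 : τ c = c ^ # (U.map φ) := by
      rw [τa, Nat.card_eq_fintype_card, ← Finset.card_univ, ← Finset.prod_const]
      refine Finset.prod_congr rfl ?_
      rintro ⟨_, u, hu, rfl⟩ -
      exact Subtype.ext (mul_inv_eq_iff_eq_mul.2 (mem_cent.1 c4 u hu))
    rw [show τ c = 1 from c1, ← relIndex_ker, hk] at c5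
    refine c3 (Subtype.ext ((pe_of_mem hV c.2).eq_one hl fun e => hU (e.trans ?_)))
    rw [orderOf_coe]
    exact orderOf_dvd_of_pow_eq_one c5.symm
  have k4 := (MonoidHom.ker_eq_bot_iff τ).1 ((map_eq_bot_iff_of_injective _ V.subtype_injective).1 k3)
  exact fun u hu => hk ▸ MulEquiv.ext fun v => k4 (k2 u hu v)

theorem npc_of (hr : r.Prime) (h : ∀ l, l.Prime → l ≠ r → ∀ γ : G, γ ≠ 1 → PE l γ → ∀ U : Subgroup G, ¬ l ∣ # U →
    γ ∈ N_(U) → U = ⊥) : HasNormalPComplement r G := by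
  haveI := Fact.mk hr
  obtain ⟨P⟩ : Nonempty (Sylow r G) := inferInstance
  by_contra hc
  obtain ⟨D, h1, -, -, q, hq, ne, g, hg, ⟨k, hk⟩, hg'⟩ := H03.exists_not_commute_of_not_hasNPC P hc
  refine hg' (h q hq ne g (fun e => hg' (e ▸ one_mem _)) (pe_of_ord hk) D (pg_not_dvd hq hr (pg_le P.2 h1) ne) hg ▸ ?_)
  exact cent_bot.ge (mem_top g)

theorem two_primes (hs : s.Prime) (hr : r.Prime) (ht : t.Prime) (rt : r ≠ t) (rs : r ≠ s) (ts : t ≠ s) (h1 : r ∣ # G)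
    (h2 : t ∣ # G) (h : ∀ l, l.Prime → l ≠ s → ∀ γ : G, γ ≠ 1 → PE l γ → ∀ U : Subgroup G, ¬ l ∣ # U →
    γ ∈ N_(U) → U = ⊥) : False := by
  haveI := Fact.mk hs
  haveI := Fact.mk hr
  haveI := Fact.mk ht
  have a := npc_of hs h
  have b : HasNormalPComplement r (pResidual s G) := npc_of hr fun l hl _ γ γ1 hγ U hU hn =>
    (map_eq_bot_iff_of_injective _ (subtype_injective _)).1 (h l hl (by
      rintro rfl
      exact H03.hasNPC_iff_not_dvd_card_pResidual.1 a ((hγ.dvd hl γ1).trans (orderOf_dvd_natCard γ))) γ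
      (fun e => γ1 (Subtype.ext e)) (hγ.map (Subgroup.subtype _)) _ (by rwa [card_map_of_injective (subtype_injective _)])
      (le_normalizer_map _ (mem_map_of_mem _ hn)))
  obtain ⟨x, hx⟩ := exists_prime_orderOf_dvd_card' r h1
  obtain ⟨y, hy⟩ := exists_prime_orderOf_dvd_card' t h2
  have y1 : y ∈ pResidual s G := H03.mem_pResidual_of_coprime (hy ▸ (Nat.coprime_primes ht hs).2 ts)
  have := h r hr rs x (ne_one_of_prime (hx ▸ hr)) (pe_of_prime hx) ((pResidual r (pResidual s G)).map (Subgroup.subtype _))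
    (by rw [card_map_of_injective (subtype_injective _)]; exact H03.hasNPC_iff_not_dvd_card_pResidual.1 b) (nm _ x)
  exact ne_one_of_prime (hy ▸ ht) (mem_bot.1 (this ▸ ⟨⟨y, y1⟩, H03.mem_pResidual_of_coprime (by
    rw [← orderOf_coe, hy]; exact (Nat.coprime_primes ht hr).2 rt.symm), rfl⟩))

theorem lift_pe (hl : l.Prime) {N : Subgroup G} [N.Normal] {γ : G ⧸ N} (h : PE l γ) : ∃ g : G, (g : G ⧸ N) = γ ∧ PE l g := by
  obtain ⟨P, hP⟩ := sylow_exists hl ((zpowers γ).comap (QuotientGroup.mk' N))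
  have := (hP.map (QuotientGroup.mk' N)).eq_self (by
    rw [map_comap_eq_self_of_surjective (QuotientGroup.mk'_surjective N)]; exact (isPi_singleton hl).2 h)
  rw [map_comap_eq_self_of_surjective (QuotientGroup.mk'_surjective N)] at this
  obtain ⟨g, a, b⟩ := this.ge (mem_zpowers γ)
  exact ⟨g, b, pe_of_mem (hP.pg hl) a⟩

theorem gam {H Z : Subgroup G} [H.Normal] (hA : H ≤ C_(H)) (hZ : Z ≤ center G) (hs : s.Prime) (hr : r.Prime) (ht : t.Prime)
    (rt : r ≠ t) (rs : r ≠ s) (ts : t ≠ s) (h1 : r ∣ (C_(H)).index) (h2 : t ∣ (C_(H)).index)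
    (ha : ∀ l, l.Prime → l ≠ s → ∀ g, g ∉ C_(H) → PE l g → H ⊓ C_[g] ≤ Z)
    (hb : ∀ l, l.Prime → l ≠ s → l ∣ (C_(H)).index → ∃ c ∈ H, c ∉ Z ∧ PE l c)
    (hc : (∀ l, l.Prime → (l ≠ s ∧ l ∣ (C_(H)).index) ∨ ∀ c ∈ H, PE l c → c ∈ Z) ∨ ∀ c ∈ H, c ∉ Z → C_[c] ≤ C_(H)) :
    False := by
  have hV : ∀ l, (piCoreOf {l} H).Normal := fun l => normal_of _ (norm_pcore _ fun g _ => nm H g)
  have hm : ∀ l, l.Prime → ∀ c ∈ H, PE l c → c ∈ piCoreOf {l} H := fun l hl c a b =>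
    nil_le_pcore (nil_of_abelian (abelian_iff.2 hA)) ((isPi_singleton hl).2 b) (zpowers_le.2 a) (mem_zpowers c)
  have k : ∀ l, l.Prime → l ≠ s → ∀ g, g ∉ C_(H) → PE l g → ∀ U : Subgroup G, ¬ l ∣ (C_(H)).relIndex U → g ∈ N_(U) →
      U ≤ C_(piCoreOf {l} H) := fun l hl ls g a b U c d =>
    axb (le_cent_mono hA (pcore_le _ _) (pcore_le _ _)) hl (pcore_pg hl H)
      (fun e => c (e.trans (relIndex_dvd_left _ (cent_anti (pcore_le _ _))))) b d
      fun v hv u _ => mem_center_iff.1 (hZ (ha l hl ls g a b ⟨pcore_le _ _ hv.1, hv.2⟩)) u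
  have k2 : ∀ l, l.Prime → l ≠ s → l ∣ (C_(H)).index → C_(piCoreOf {l} H) ≤ C_(H) := fun l hl ls hd => by
    obtain ⟨c, c1, c2, c3⟩ := hb l hl ls hd
    have c4 := cent_le_cent1 (hm l hl c c1 c3)
    rcases hc with hc | hc
    · refine cent_symm (le_of_pe fun l' hl' x x1 x2 => ?_)
      rcases hc l' hl' with ⟨a, b⟩ | a
      · obtain ⟨g, g1, g2⟩ := exists_pe' hl' b
        refine cent_symm (k l' hl' a g g1 g2 _ (fun e => ?_) (nm _ g)) (hm l' hl' x x1 x2)
        obtain ⟨y, y1, y2, y3⟩ := exists_pe hl' e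
        exact c2 (ha l' hl' a y y2 y3 ⟨c1, mem_cent1_comm.1 (c4 y1)⟩)
      · exact fun u _ => mem_center_iff.1 (hZ (a x x1 x2)) u
    · exact c4.trans (hc c c1 c2)
  haveI : Finite (G ⧸ C_(H)) := inferInstance
  refine two_primes (G := G ⧸ C_(H)) hs hr ht rt rs ts h1 h2 fun l hl ls γ γ1 hγ U hU hn => ?_
  obtain ⟨g, rfl, hg⟩ := lift_pe hl hγ
  refine eq_bot_iff.2 fun u hu => ?_
  obtain ⟨u, rfl⟩ := QuotientGroup.mk_surjective u
  exact (QuotientGroup.eq_one_iff u).2 (k2 l hl ls ((hγ.dvd hl γ1).trans (orderOf_dvd_natCard _)) (k l hl ls g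
    (mt (QuotientGroup.eq_one_iff g).2 γ1) hg (U.comap (QuotientGroup.mk' _)) (by rwa [relIndex_comap_mk])
    (le_normalizer_comap _ hn) hu))

theorem f1 {H : Subgroup G} (hA : H ≤ C_(H)) (hr : r.Prime) (rs : r ≠ s) {c : G} (c1 : c ∈ H) (c2 : PE r c)
    (h1 : Group.IsSolvable C_[c]) (h2 : IsPiHallOf {s}ᶜ H C_[c]) (hd : r ∣ H.index) : r ∣ (C_(H)).relIndex N_(H) := by
  have hn := nil_of_abelian (abelian_iff.2 hA)
  set R := piCoreOf {r} H
  have a1 : C_(R) ≤ C_[c] := cent_le_cent1 (nil_le_pcore hn ((isPi_singleton hr).2 c2) (zpowers_le.2 c1) (mem_zpowers c))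
  have a2 : H ≤ C_(R) := hA.trans (cent_anti (pcore_le _ _))
  have a3 := h2.sub a2 a1
  have a4 : IsSylowIn r R C_(R) := IsSylowIn.trans_hall (nil_pcore_hall {r} hn) a3 rs
  have a5 : r ∣ (C_(R)).relIndex N_(R) := by
    by_contra e
    have := IsSylowIn.of_norm hr le_top (top_inf_eq N_(R) ▸ a4.trans_idx (cent_le_norm _) e)
    exact this.not_dvd' hr (by rw [relIndex_top_right]; exact hd.trans (index_dvd_of_le (pcore_le _ _)))
  rw [← hall_frattini (sol_of_le h1 a1) a3 (cent_le_norm _) (norm_le_norm_cent _),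
    relIndex_sup (inf_le_left.trans (norm_le_norm_cent _)), inf_eq_right.2 (norm_le_norm_pcore _ _)] at a5
  exact a5.trans (relIndex_dvd_left _ (cent_anti (pcore_le _ _)))

theorem hh {H : Subgroup G} (hA : H ≤ C_(H)) (hs : s.Prime) (hr : r.Prime) (ht : t.Prime)
    (rt : r ≠ t) (rs : r ≠ s) (ts : t ≠ s) (h1 : r ∣ H.index) (h2 : t ∣ H.index) (n1 : NC r G) (n2 : NC t G)
    (ha : ∀ l, l.Prime → ∀ c ∈ H, c ∉ center G → PE l c → Group.IsSolvable C_[c] ∧ IsPiHallOf {s}ᶜ H C_[c])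
    (hb : ∀ l, l.Prime → l ≠ s → NC l G → ∃ c ∈ H, c ∉ center G ∧ PE l c)
    (hc : (∀ l, l.Prime → l ≠ s → NC l G → l ∣ H.index) ∨ ∀ c ∈ H, c ∉ center G → C_[c] ≤ C_(H)) : False := by
  haveI := normal_in_normalizer (H := H)
  have e : C_(H.subgroupOf N_(H)) = (C_(H)).subgroupOf N_(H) := by
    ext g
    rw [mem_subgroupOf, mem_cent, mem_cent]
    exact ⟨fun h a ha => congrArg Subtype.val (h ⟨a, le_norm _ ha⟩ ha), fun h a ha => Subtype.ext (h a ha)⟩
  have k : ∀ l, l.Prime → l ≠ s → NC l G → l ∣ H.index → l ∣ (C_(H.subgroupOf N_(H))).index := fun l hl ls n hd => by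
    obtain ⟨c, c1, c2, c3⟩ := hb l hl ls n
    exact e ▸ f1 hA hl ls c1 c3 (ha l hl c c1 c2 c3).1 (ha l hl c c1 c2 c3).2 hd
  obtain ⟨c, c1, c2, c3⟩ := hb r hr rs n1
  have hH := (ha r hr c c1 c2 c3).2.isPi
  refine gam (H := H.subgroupOf N_(H)) (Z := (center G).subgroupOf N_(H)) (e ▸ comap_mono hA)
    (fun z hz => mem_center_iff.2 fun g => Subtype.ext (mem_center_iff.1 hz g)) hs hr ht rt rs ts (k r hr rs n1 h1)
    (k t ht ts n2 h2) (fun l hl ls g g1 g2 c hc => by_contra fun c1 => ?_) (fun l hl ls hd => ?_)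
    (hc.imp (fun hc l hl => or_iff_not_imp_right.2 fun a => ?_) fun hc c c1 c2 g hg => e ▸
      hc c c1 c2 (mem_cent1.2 (congrArg Subtype.val (mem_cent1.1 hg))))
  · obtain ⟨l', hl', -, y, y1, y2, y3⟩ := exists_pe_zp (x := (c : G)) (K := center G) c1
    have y4 : y ∈ H := zpowers_le.2 (show (c : G) ∈ H from hc.1) y1
    have := (ha l' hl' y y4 y2 y3).2.le_of_norm' (isPi_of_pg hl (g2.map (Subgroup.subtype _)) ls) (zpowers_le.2
      (cent1_le_of_mem_zpowers y1 (mem_cent1.2 (congrArg Subtype.val (mem_cent1.1 hc.2)).symm))) (zpowers_le.2 g.2)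
    exact g1 (e ▸ hA (this (mem_zpowers _)))
  · obtain ⟨g, g1, g2⟩ := exists_pe' hl hd
    obtain ⟨c, c1, c2, c3⟩ := hb l hl ls ⟨g, fun a => g1 (e ▸ fun u _ => mem_center_iff.1 a u), g2.map (Subgroup.subtype _)⟩
    exact ⟨⟨c, le_norm _ c1⟩, c1, c2, (pe_coe hl).1 c3⟩
  · push Not at a
    obtain ⟨c, c1, c2, c3⟩ := a
    have c4 := c2.map (Subgroup.subtype _)
    have ls : l ≠ s := hH l hl ((c4.dvd hl fun e => c3 (mem_subgroupOf.2 ((show (c : G) = 1 from e) ▸ one_mem _))).trans (BG.orderOf_dvd_card c1))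
    exact ⟨ls, k l hl ls ⟨c, c3, c4⟩ (hc l hl ls ⟨c, c3, c4⟩)⟩

theorem pq (hp : p.Prime) {V : Subgroup G} [V.Normal] (hV : IsPGroup p V) {v : G} (hv : ¬ p ∣ orderOf v) {n : ℕ}
    (hn : ¬ p ∣ n) (h : ∀ u ∈ V, u ∉ center G → cs v ∣ cs u * n) : v ∈ C_(V) := by
  haveI := Fact.mk hp
  obtain ⟨P, hP⟩ := sylow_exists hp C_[v]
  refine zpowers_le.1 (H01.thompson_PxQ (hP.pg hp) (by rw [BG.card_zpowers]; exact ((hp.coprime_iff_not_dvd).2 hv).symm) hV
    (cent_zpowers v ▸ hP.le) (fun g _ => nm V g) (fun g _ => nm V g) fun u hu => ?_)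
  rw [cent_zpowers]
  by_cases e : u ∈ center G
  · exact H27.center_le_cent v e
  have := sylow_eq hp hP (pg_sup (hP.pg hp) (pe_of_mem hV hu.1) (le_norm_of_cent (zpowers_le.2 hu.2))) le_sup_left
    ((BG.card_dvd (sup_le (le_cent1_iff.2 hu.2) (zpowers_le_cent1 u))).trans (card_dvd_of_cs (h u hu.1 e))) hn
  exact hP.le (this ▸ mem_sup_right (mem_zpowers u))

theorem nil_of_pe [Group.IsSolvable G] {k : ℕ} (h : ∀ l, l.Prime → ∀ x : G, PE l x → x ∉ center G → cs x = k) :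
    Group.IsNilpotent G := by
  have hF := fit_nil (⊤ : Subgroup G)
  have hn : ∀ π, (piCoreOf π (fittingOf (⊤ : Subgroup G))).Normal := fun π =>
    normal_of _ (norm_pcore _ (le_norm_fit ⊤))
  have k1 : ∀ l q, l.Prime → q.Prime → l ≠ q → ∀ x : G, PE q x → x ∈ C_(piCoreOf {l} (fittingOf (⊤ : Subgroup G))) :=
    fun l q hl hq ne x hx => by
    by_cases e : x ∈ center G
    · exact fun u _ => mem_center_iff.1 e u
    exact pq hl (pcore_pg hl _) (hx.not_dvd hq hl ne) (n := 1) hl.not_dvd_one fun u hu a => by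
      rw [h q hq x hx e, h l hl u (pe_of_mem (pcore_pg hl _) hu) a, mul_one]
  refine Group.isNilpotent_top.1 (nil_of_sylow_normal fun q hq _ => ?_)
  obtain ⟨Q, hQ⟩ := sylow_exists hq (⊤ : Subgroup G)
  set N := C_(piCoreOf {q}ᶜ (fittingOf (⊤ : Subgroup G)))
  have a1 : Q ≤ N := cent_symm (le_of_pe fun l hl x x1 x2 => by
    by_cases e : x = 1
    · exact e ▸ one_mem _
    refine cent_symm (fun y hy => k1 l q hl hq ?_ y (pe_of_mem (hQ.pg hq) hy)) (nil_le_pcore hF ((isPi_singleton hl).2 x2)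
      (zpowers_le.2 (pcore_le _ _ x1)) (mem_zpowers x))
    exact pcore_isPi _ _ l hl ((x2.dvd hl e).trans (BG.orderOf_dvd_card x1)))
  have a2 : N ≤ N_(Q) := le_of_sylows fun l hl _ => by
    by_cases e : l = q
    · exact ⟨Q, e ▸ hQ.sub a1 le_top, le_norm _⟩
    refine (sylow_exists hl N).imp fun P hP => ⟨hP, le_norm_of_cent (cent_symm (a1.trans (cent_anti fun x hx => ?_)))⟩
    have x1 := pe_of_mem (hP.pg hl) hx
    refine nil_le_pcore hF (isPi_of_pg hl x1 e) (zpowers_le.2 (fit_cent_le inferInstance ⟨trivial, ?_⟩)) (mem_zpowers x)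
    rw [← (nil_dprod {q} hF).sup, cent_sup]
    exact ⟨k1 q l hq hl (Ne.symm e) x x1, hP.le hx⟩
  exact ⟨Q, hQ, (hQ.sub a1 le_top).eq_pcore a2 ▸ norm_pcore _ fun g _ => nm N g⟩

end H02.CZ
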