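import Mathlib
import Cfsg.Agent.H02.CZ1

/-!
# Two class sizes of `p`-regular elements (Camina; Alemany–Beltrán–Felipe)
-/

set_option linter.unusedSectionVars false
set_option linter.unusedVariables false
set_option linter.style.haveILetI false

namespace H02.CZ

open Cfsg BG MulAction Subgroup H02.PT
open H27 (cs)
open scoped commutatorElement Pointwise IsMulCommutative

local notation "#" => Nat.card

variable {G : Type*} [Group G] [Finite G] {p q r s t l : ℕ} {x y g : G}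

/-- abelian `p`-complement -/
def AbC (p : ℕ) (G : Type*) [Group G] : Prop := ∃ H : Subgroup G, H ≤ C_(H) ∧ IsPiHallOf {p}ᶜ H ⊤

def Two (p q : ℕ) (G : Type*) [Group G] : Prop := ∀ l, l.Prime → l ≠ p → l ≠ q → ¬ NC l G

theorem norm_of_comm (h : x⁻¹ * (g * x * g⁻¹) ∈ center G) : g ∈ N_(C_[x]) := by
  have := H27.cent_mul_center (x := x) h
  rw [mul_inv_cancel_left] at this
  rw [← cj_eq_self_iff, cj_cent1]; exact this

theorem ord_comm_dvd (h : x⁻¹ * (g * x * g⁻¹) ∈ center G) : orderOf (x⁻¹ * (g * x * g⁻¹)) ∣ orderOf g := by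
  have k : ∀ n : ℕ, g ^ n * x * (g ^ n)⁻¹ = x * (x⁻¹ * (g * x * g⁻¹)) ^ n := fun n => by
    induction n with
    | zero => simp
    | succ n ih =>
      have := mem_center_iff.1 (pow_mem h n)
      rw [pow_succ' g, mul_inv_rev, show g * g ^ n * x * ((g ^ n)⁻¹ * g⁻¹) = g * (g ^ n * x * (g ^ n)⁻¹) * g⁻¹ by group, ih,
        pow_succ', mul_assoc g, mul_assoc x, ← this]
      simp only [mul_assoc, mul_inv_cancel_left]
  have := k (orderOf g)
  rw [pow_orderOf_eq_one, one_mul, inv_one, mul_one, left_eq_mul] at this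
  exact orderOf_dvd_of_pow_eq_one this

theorem not_dvd_mul (hp : p.Prime) (e : x * y = y * x) (hx : ¬ p ∣ orderOf x) (hy : ¬ p ∣ orderOf y) : ¬ p ∣ orderOf (x * y) :=
  fun a => (hp.dvd_mul.1 (a.trans (Commute.orderOf_mul_dvd_mul_orderOf e))).elim hx hy

theorem pi_compl (hp : p.Prime) : IsPiElt {p}ᶜ x ↔ ¬ p ∣ orderOf x := by rw [isPiElt_iff, isPi_compl hp, BG.card_zpowers]

theorem nil_of_cent (hp : p.Prime) {D : Subgroup G} (h : ∀ l, l.Prime → l ≠ p → ∀ u ∈ D, PE l u → u ∈ C_(D)) :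
    Group.IsNilpotent D := nil_of_sylow_normal fun l hl _ => (sylow_exists hl D).imp fun L hL => ⟨hL, by
  by_cases e : l = p
  · refine le_of_sylows fun l' hl' _ => ?_
    by_cases e' : l' = l
    · exact ⟨L, e' ▸ hL, le_norm _⟩
    · exact (sylow_exists hl' D).imp fun L' hL' => ⟨hL', le_norm_of_cent fun u hu => cent_anti hL.le
        (h l' hl' (e ▸ e') u (hL'.le hu) (pe_of_mem (hL'.pg hl') hu))⟩
  · exact le_norm_of_cent (cent_symm fun u hu => h l hl e u (hL.le hu) (pe_of_mem (hL.pg hl) hu))⟩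

theorem exists_conj_cent (hl : l.Prime) (h : ¬ l ∣ cs y) (hx : PE l x) : ∃ g : G, g * y * g⁻¹ ∈ C_[x] := by
  obtain ⟨T, hT⟩ := sylow_exists hl C_[y]
  obtain ⟨g, -, e⟩ := sylow_subJ hl (hT.trans_idx le_top (by rwa [relIndex_top_right])) hx le_top
  exact ⟨g, mem_cent1_comm.1 (cj_cent1 g y ▸ cj_mono g hT.le (e (mem_zpowers x)))⟩

theorem two_sizes (hp : p.Prime) {m : ℕ} (h : ∀ x : G, ¬ p ∣ orderOf x → x ∉ center G → cs x = m) :
    AbC p G ∨ ∃ q, q.Prime ∧ q ≠ p ∧ Two p q G := by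
  refine or_iff_not_imp_right.2 fun hq => ?_
  replace hq : ∀ q, q.Prime → q ≠ p → ∃ l, l.Prime ∧ l ≠ p ∧ l ≠ q ∧ NC l G := fun q a b => by
    by_contra hc
    exact hq ⟨q, a, b, fun l c d e f => hc ⟨l, c, d, e, f⟩⟩
  have k1 : ∀ l, l.Prime → l ≠ p → NC l G → ∀ x : G, ¬ p ∣ orderOf x → x ∉ center G → ∃ c ∈ C_[x], c ∉ center G ∧ PE l c :=
    fun l hl lp ⟨g, g1, g2⟩ x x1 x2 => ex_nc hl g1 g2 (n := 1)
      (by rw [h x x1 x2, h g (g2.not_dvd hl hp lp.symm) g1, mul_one]) hl.not_dvd_one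
  have k2 : ∀ x y : G, ¬ p ∣ orderOf x → ¬ p ∣ orderOf y → x ∉ center G → x * y = y * x →
      (orderOf x).Coprime (orderOf y) → C_[x] ≤ C_[y] := fun x y a b c e f => by
    have := H27.cent_mul_of_coprime e f
    rw [← cent_eq (x := x * y) (y := x) (this.le.trans inf_le_left)
      (by rw [h x a c, h _ (not_dvd_mul hp e a b) (mul_notMem e f c)])]
    exact this.le.trans inf_le_right
  have k3 : ∀ l, l.Prime → l ≠ p → ∀ x, x ∉ center G → PE l x → ∀ l', l'.Prime → l' ≠ p → ∀ u ∈ C_[x], PE l' u →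
      u ∈ C_(C_[x]) := fun l hl lp x x1 x2 l' hl' lp' u u1 u2 => by
    have x3 := x2.not_dvd hl hp lp.symm
    have u3 := u2.not_dvd hl' hp lp'.symm
    rw [← le_cent1_iff]
    by_cases e : l = l'
    · obtain ⟨j, hj, j1, j2, j3⟩ := hq l hl lp
      obtain ⟨c, c1, c2, c3⟩ := k1 j hj j1 j3 x x3 x1
      have c4 := c3.not_dvd hj hp j1.symm
      have := k2 x c x3 c4 x1 (mem_cent1.1 c1).symm (x2.cop hl c3 hj j2.symm)
      exact this.trans (k2 c u c4 u3 c2 (mem_cent1.1 (this u1)).symm (c3.cop hj u2 hl' (e ▸ j2)))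
    · exact k2 x u x3 u3 x1 (mem_cent1.1 u1).symm (x2.cop hl u2 hl' e)
  obtain ⟨r0, r1, r2⟩ := Nat.exists_infinite_primes (p + 1)
  obtain ⟨r, hr, rp, -, x, x1, x2⟩ := hq r0 r2 (by omega)
  have x3 := x2.not_dvd hr hp rp.symm
  set D := C_[x] with hD
  have nD := nil_of_cent hp (k3 r hr rp x x1 x2)
  set H := piCoreOf {p}ᶜ (D ⊓ C_(D))
  have hH : IsPiHallOf {p}ᶜ H D := (nil_pcore_hall _ (nil_of_le nD inf_le_left)).trans' inf_le_left fun l hl lp =>
    not_dvd_idx hl fun g hg a => ⟨hg, k3 r hr rp x x1 x2 l hl lp g hg a⟩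
  have HD : D ≤ C_(H) := cent_symm ((pcore_le _ _).trans inf_le_right)
  have hA := hH.le.trans HD
  have NH : N_(D) ≤ N_(H) := norm_pcore _ (norm_inf le_rfl (norm_cent le_rfl))
  have cH : ∀ c ∈ H, c ∉ center G → C_[c] = D := fun c a b => (cent_eq (HD.trans (cent_le_cent1 a))
    (by rw [h x x3 x1, h c ((pi_compl hp).1 (hH.isPi.elt a)) b])).symm
  have mH : ∀ y ∈ D, ¬ p ∣ orderOf y → y ∈ H := fun y a b => hH.elt_mem (le_norm_of_cent HD) a ((pi_compl hp).2 b)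
  have hb : ∀ l, l.Prime → l ≠ p → NC l G → ∃ c ∈ H, c ∉ center G ∧ PE l c := fun l hl lp n =>
    (k1 l hl lp n x x3 x1).imp fun c ⟨a, b, d⟩ => ⟨mH c a (d.not_dvd hl hp lp.symm), b, d⟩
  have hm : D.index = m := h x x3 x1
  by_cases hA' : ∃ q, q.Prime ∧ q ≠ p ∧ q ∣ m
  swap
  · exact ⟨H, hA, hH.trans' le_top fun l hl lp a => hA' ⟨l, hl, lp, by rwa [relIndex_top_right, hm] at a⟩⟩
  obtain ⟨q, hq', qp, qm⟩ := hA'
  have hB : ∀ l, l.Prime → l ≠ p → l ≠ q → ¬ l ∣ m := fun l hl lp lq lm =>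
    hh hA hp hl hq' lq lp qp ((hm ▸ lm).trans (index_dvd_of_le hH.le)) ((hm ▸ qm).trans (index_dvd_of_le hH.le))
      (nc_of_dvd hl (x := x) (lm.trans hm.symm.dvd)) (nc_of_dvd hq' (x := x) (qm.trans hm.symm.dvd))
      (fun j hj c c1 c2 c3 => cH c c1 c2 ▸ ⟨sol_of_nil nD, hH⟩) hb (Or.inr fun c c1 c2 => cH c c1 c2 ▸ HD)
  obtain ⟨t, ht, tp, tq, nt⟩ := hq q hq' qp
  obtain ⟨v, v1, v2, v3⟩ := hb t ht tp nt
  have cj1 : ∀ y : G, ¬ p ∣ orderOf y → ∃ g, g * y * g⁻¹ ∈ H := fun y a => by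
    by_cases e : y ∈ center G
    · exact ⟨1, by simpa using mH y (H27.center_le_cent x e) a⟩
    obtain ⟨g, hg⟩ := exists_conj_cent ht (y := y) (h y a e ▸ hB t ht tp tq) v3
    exact ⟨g, mH _ (cH v v1 v2 ▸ hg) (by rwa [BG.orderOf_conj])⟩
  haveI := Fact.mk hp
  let f : G →* (G ⧸ center G) ⧸ pCore p (G ⧸ center G) := (QuotientGroup.mk' _).comp (QuotientGroup.mk' _)
  have hO : ∀ o ∈ f.ker, ¬ p ∣ orderOf o → o ∈ center G := fun o a b => (QuotientGroup.eq_one_iff o).1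
    ((pe_of_mem (pCore_isPGroup p _) ((QuotientGroup.eq_one_iff _).1 a)).eq_one hp
      fun e => b (e.trans (orderOf_map_dvd (QuotientGroup.mk' (center G)) o)))
  obtain ⟨z, z1, z2, z3, k, z4⟩ : ∃ z ∈ H, z ∉ center G ∧ PE q z ∧ ∃ k, cs (f z) ∣ p ^ k := by
    obtain ⟨Q, hQ⟩ := sylow_exists hq' (⊤ : Subgroup (G ⧸ center G))
    obtain ⟨⟨w, w1, w2⟩, w3⟩ := ne_bot_iff_exists_ne_one.1 (pg_center_ne_bot hq' (hQ.pg hq') (hQ.ne_bot' hq' (by
      rw [card_top]; exact (hm ▸ qm).trans (H27.cs_dvd_index_center x))))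
    obtain ⟨z, rfl, z3⟩ := lift_pe hq' (pe_of_mem (hQ.pg hq') w1)
    have z2 : z ∉ center G := fun a => w3 (Subtype.ext ((QuotientGroup.eq_one_iff z).2 a))
    have z5 := z3.not_dvd hq' hp qp.symm
    obtain ⟨k, hk⟩ := pow_of_primes hp (H27.cs_ne_zero (z : G ⧸ center G)) fun l hl a => by_contra fun lp => by
      by_cases lq : l = q
      · exact hQ.not_dvd' hq' (by rw [relIndex_top_right]; exact (lq ▸ a).trans (index_dvd_of_le (le_cent1_iff.2 w2)))
      · exact hB l hl lp lq (h z z5 z2 ▸ a.trans (H27.cs_mk_dvd _ z))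
    obtain ⟨g, hg⟩ := cj1 z z5
    refine ⟨_, hg, fun a => z2 (by simpa [mul_assoc] using Normal.conj_mem inferInstance _ a g⁻¹), z3.conj g, k, ?_⟩
    rw [map_mul, map_mul, map_inv, H27.cs_conj, ← hk]
    exact H27.cs_mk_dvd _ _
  obtain ⟨f1, f2⟩ := H27.mem_fitting_of_cs_dvd (pCore_quotient_pCore p _) z4
  haveI := Fact.mk hq'
  set Y := (pCore q _).comap f
  obtain ⟨R, hR, zR⟩ := sylow_superset hq' z3 (zpowers_le.2 (show z ∈ Y from le_pCore_of_le_fitting hq' (z3.map f)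
    (zpowers_le.2 f1) (mem_zpowers _)))
  replace zR := zR (mem_zpowers z)
  have RH : R ≤ H := fun ρ hρ => by
    have a0 := pe_of_mem (hR.pg hq') hρ
    have a1 : ρ ∈ N_(H) := NH (cH z z1 z2 ▸ norm_of_comm (hO _ (by
      have := mem_cent.1 f2 _ (pCore_le_fitting (hR.le hρ))
      simp [MonoidHom.mem_ker, this]) ((pe_of_mem (hR.pg hq') (mul_mem (inv_mem zR)
        (mul_mem (mul_mem hρ zR) (inv_mem hρ)))).not_dvd hq' hp qp.symm)))
    have a2 : PE t (v⁻¹ * (ρ * v * ρ⁻¹)) := v3.inv.mul (v3.conj ρ)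
      (le_cent_iff.1 hA _ (inv_mem v1) _ (conj_mem_of_norm a1 v1))
    have a3 : v⁻¹ * (ρ * v * ρ⁻¹) ∈ Y := by
      have := mul_mem (conj_mem_of_norm' (nm Y v) (hR.le hρ)) (inv_mem (hR.le hρ))
      simpa only [mul_assoc] using this
    have a4 := hO _ ((a2.map f).eq_one ht ((pe_of_mem (pCore_isPGroup q _) a3).not_dvd hq' ht tq)) (a2.not_dvd ht hp tp.symm)
    have a5 := a2.eq_one ht fun e => a0.not_dvd hq' ht tq (e.trans (ord_comm_dvd a4))
    exact mH ρ (cH v v1 v2 ▸ mem_cent1.2 (mul_inv_eq_iff_eq_mul.1 (inv_mul_eq_one.1 a5).symm)) (a0.not_dvd hq' hp qp.symm)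
  have CR : C_(R) = D := le_antisymm (cH z z1 z2 ▸ cent_le_cent1 zR) (HD.trans (cent_anti RH))
  have hY : Y ≤ f.ker ⊔ H := by
    have := (hR.map f).eq_self ((isPi_singleton hq').2 (pg_le (pCore_isPGroup q _) (map_comap_le _ _)))
    refine (le_comap_map f Y).trans ?_
    rw [← this, comap_map_eq]
    exact sup_le (RH.trans le_sup_right) le_sup_left
  haveI : (f.ker ⊔ H).Normal := normal_of _ (by
    rw [← sylow_frattini hq' hR le_top fun g _ => nm Y g]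
    exact sup_le (norm_of_le hY) (norm_sup (fun g _ => nm _ g) (inf_le_right.trans ((CR ▸ norm_le_norm_cent R).trans NH))))
  refine ⟨H, hA, isPiHallOf_mk le_top hH.isPi fun l hl a lp => ?_⟩
  rw [← relIndex_mul (le_sup_right : H ≤ f.ker ⊔ H) le_top, relIndex_sup' fun g _ => nm _ g] at a
  refine (hl.dvd_mul.1 a).elim (not_dvd_idx hl fun g g1 g2 => ?_) (not_dvd_idx hl fun g _ g2 => ?_)
  · exact mH g (H27.center_le_cent x (hO g g1 (g2.not_dvd hl hp (Ne.symm lp)))) (g2.not_dvd hl hp (Ne.symm lp))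
  · obtain ⟨u, hu⟩ := cj1 g (g2.not_dvd hl hp (Ne.symm lp))
    simpa [mul_assoc] using conj_mem_of_norm' (nm (f.ker ⊔ H) u) (mem_sup_right hu)

theorem fac_of_idx (hp : p.Prime) {A P : Subgroup G} (hP : IsSylowIn p P ⊤) (h : ∀ l, l.Prime → l ∣ A.index → l = p) :
    H27.Fac A P := by
  obtain ⟨k, e⟩ := pow_of_primes hp index_ne_zero_of_finite h
  exact H27.exists_mul_of_coprime_index (e ▸ ((hp.coprime_iff_not_dvd).2 (by
    simpa using IsSylowIn.not_dvd' hP hp)).pow_left k)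

theorem sol_of_nil_idx (hp : p.Prime) {A : Subgroup G} (hA : Group.IsNilpotent A) (h : ∀ l, l.Prime → l ∣ A.index → l = p) :
    Group.IsSolvable G := by
  obtain ⟨P, hP⟩ := sylow_exists hp (⊤ : Subgroup G)
  exact H27.kegel_wielandt (fac_of_idx hp hP h) hA (pg_nil hp (hP.pg hp))

theorem AbC.sol (h : AbC p G) (hp : p.Prime) : Group.IsSolvable G := by
  obtain ⟨H, a, b⟩ := h
  exact sol_of_nil_idx hp (nil_of_abelian (abelian_iff.2 a)) fun l hl e => by simpa using b.idx l hl (by simpa using e)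

theorem sol_of_sizes (hp : p.Prime) {m : ℕ} (h : ∀ x : G, ¬ p ∣ orderOf x → x ∉ center G → cs x = m) : Group.IsSolvable G :=
  (two_sizes hp h).elim (·.sol hp) fun ⟨q, hq, _, a⟩ => sol_of_two hp hq a

theorem AbC.cs_pow (h : AbC p G) (hp : p.Prime) (hx : ¬ p ∣ orderOf x) (hl : l.Prime) (hd : l ∣ cs x) : l = p := by
  haveI := h.sol hp
  obtain ⟨H, a, b⟩ := h
  obtain ⟨g, -, e⟩ := hall_Jsub inferInstance b (isPiElt_iff.1 ((pi_compl hp).2 hx)) le_top
  rw [← H27.cs_conj x g] at hd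
  simpa using b.idx l hl (by simpa using hd.trans (index_dvd_of_le (a.trans (cent_le_cent1 (e (conj_mem_cj g (mem_zpowers x)))))))

theorem Two.cs (h : Two p q G) (hl : l.Prime) (hd : l ∣ cs x) : l = p ∨ l = q := by
  by_contra e
  exact h l hl (fun a => e (Or.inl a)) (fun a => e (Or.inr a)) (nc_of_dvd hl hd)

end H02.CZ
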