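import Mathlib
import Cfsg.Agent.H02.PT2
import Cfsg.Agent.L.Small
import Cfsg.Agent.H19.SylowCount
import Cfsg.Agent.H01.KS122a

/-!
# Groups with a partition and a nontrivial Fitting subgroup (Baer, Kegel)
-/

set_option linter.unusedSectionVars false
set_option linter.unusedVariables false
set_option linter.style.haveILetI false

namespace H02.PT

open Cfsg BG MulAction Subgroup H02.BQ
open scoped commutatorElement Pointwise IsMulCommutative

local notation "#" => Nat.card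

universe u
variable {G : Type*} [Group G] [Finite G] {p q r : ℕ}

def Hu (G : Type*) [Group G] : Prop := ∃ p : ℕ, p.Prime ∧ closure {g : G | g ^ p ≠ 1} ≠ ⊤
def Fr (G : Type*) [Group G] : Prop := ∃ H : Subgroup G, IsFrobeniusComplement H

theorem hu_of (hp : p.Prime) {H : Subgroup G} (h1 : H ≠ ⊤) (h : ∀ g, g ∉ H → g ^ p = 1) : Hu G :=
  ⟨p, hp, fun e => h1 (eq_top_iff.2 (e ▸ (closure_le _).2 fun g hg => by_contra fun a => hg (h g a)))⟩

theorem fr_of {K : Subgroup G} [K.Normal] (K0 : K ≠ ⊥) (K1 : K ≠ ⊤) (hc : (# K).Coprime K.index)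
    (h : ∀ k ∈ K, k ≠ 1 → ∀ x, x * k = k * x → (orderOf x).Prime → orderOf x ∣ # K) : Fr G := by
  obtain ⟨X, hX⟩ := exists_right_complement'_of_coprime hc
  refine ⟨X, isFrob_of_fpf hX K0 (fun e => K1 (by simpa [e] using hX.sup_eq_top)) fun x hx x1 => fpf_iff.2
    fun k hk e => by_contra fun k1 => ?_⟩
  obtain ⟨y, hy, hp⟩ := exists_prime_ord x1
  have := h k hk k1 y (mem_cent1.1 (mem_cent1_comm.1 (cent1_le_of_mem_zpowers hy (mem_cent1.2 e.symm)))) hp
  refine hp.one_lt.ne' (Nat.eq_one_of_dvd_coprimes hc this ?_)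
  rw [hX.symm.index_eq_card]
  exact BG.orderOf_dvd_card (zpowers_le.2 hx hy)

theorem mem_of_pow {K : Subgroup G} {x : G} {m n : ℕ} (hc : m.Coprime n) (h1 : x ^ m ∈ K) (h2 : x ^ n ∈ K) : x ∈ K := by
  have := mul_mem (zpow_mem h1 (Nat.gcdA m n)) (zpow_mem h2 (Nat.gcdB m n))
  rwa [← zpow_natCast, ← zpow_natCast, ← zpow_mul, ← zpow_mul, ← zpow_add, ← Nat.gcd_eq_gcd_ab, hc, Nat.cast_one,
    zpow_one] at this

theorem dvd_ord (hp : p.Prime) {K : Subgroup G} {x u : G} (hx : x ∈ N_(K)) (hx' : x ∉ K) (hxp : x ^ p ∈ K)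
    (hu : u ∈ K) : p ∣ orderOf (u * x) := by
  by_contra hc
  refine hx' (mem_of_pow (hp.coprime_iff_not_dvd.2 hc) hxp ?_)
  simpa using mul_pow_mem hx hu (orderOf (u * x))

theorem eq_bot_of_comap {N : Subgroup G} [N.Normal] {K : Subgroup (G ⧸ N)} (h : K.comap (QuotientGroup.mk' N) ≤ N) :
    K = ⊥ := eq_bot_iff.2 fun y hy => by
  obtain ⟨g, rfl⟩ := QuotientGroup.mk_surjective y
  exact (QuotientGroup.eq_one_iff g).2 (h hy)

theorem le_comap_mk (N : Subgroup G) [N.Normal] (K : Subgroup (G ⧸ N)) : N ≤ K.comap (QuotientGroup.mk' N) :=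
  fun g hg => by rw [mem_comap, QuotientGroup.mk'_apply, (QuotientGroup.eq_one_iff g).2 hg]; exact one_mem _

theorem cop (hp : p.Prime) {V : Subgroup G} (hV : IsPGroup p V) {n : ℕ} (h : ¬ p ∣ n) : n.Coprime (# V) := by
  obtain ⟨k, hk⟩ := pg_card hp hV
  exact hk ▸ (hp.coprime_iff_not_dvd.2 h).symm.pow_right k

theorem dvd_ord' (hp : p.Prime) {K : Subgroup G} {x u : G} (hx : x ∈ N_(K)) (hx' : x ∉ K) (hxp : x ^ p ∈ K)
    (hu : u ∈ K) : p ∣ orderOf (x * u) := by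
  simpa using dvd_ord hp hx hx' hxp (conj_mem_of_norm hx hu)

theorem fin (hp : p.Prime) (h2 : p ≠ 2) {W : Subgroup G} [W.Normal] (hA : W ≤ C_(W)) (hD : IsPGroup p C_(W))
    (hm : ∀ K : Subgroup G, K.Normal → IsPGroup p K → K ≤ C_(W))
    (h1 : ∀ g, g ∉ C_(W) → p ∣ orderOf g → g ^ p = 1) (h3 : ∀ t, orderOf t = 2 → W ⊓ C_[t] = ⊥) :
    ¬ p ∣ (C_(W)).index := by
  intro hd
  haveI := Fact.mk hp
  haveI := abelian_iff.2 hA
  obtain ⟨x, hx⟩ := exists_prime_orderOf_dvd_card' (G := G ⧸ C_(W)) p hd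
  have A : ∀ K : Subgroup (G ⧸ C_(W)), K.Normal → ¬ p ∣ # K → K = ⊥ := fun K _ hK => by
    obtain ⟨x, rfl⟩ := QuotientGroup.mk_surjective x
    have hx' : x ∉ K.comap (QuotientGroup.mk' _) := fun e => hK (hx ▸ BG.orderOf_dvd_card e)
    refine eq_bot_of_comap (lemM (x := x) hp (top_le_norm _) (nm _ _) (nm _ _) ?_ fun u hu v hv => ?_)
    · rw [relIndex_comap_mk]
      exact cop hp (pg_le hD hA) hK
    have hv' := le_comap_mk _ K (hA hv)
    have e : v * (x * u) = v * (x * u * x⁻¹) * x := by group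
    refine h1 _ (fun a => hx' ((mul_mem_cancel_right hu).1 ((mul_mem_cancel_left hv').1 (le_comap_mk _ K a)))) ?_
    rw [e]
    refine dvd_ord hp (nm _ _) hx' (le_comap_mk _ K ?_) (mul_mem hv' (conj_mem_of_norm (nm _ _) hu))
    rw [← QuotientGroup.eq_one_iff, QuotientGroup.mk_pow, ← hx, pow_orderOf_eq_one]
  rcases Nat.even_or_odd (# G) with he | ho
  · obtain ⟨t, ht⟩ := exists_prime_orderOf_dvd_card' (G := G) 2 he.two_dvd
    have t2 : t * t = 1 := by rw [← pow_two, ← ht, pow_orderOf_eq_one]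
    have hi := fun w hw => fpf_involution_inverts (nm W t) t2 (h3 t ht) (k := w) hw
    have hc : ∀ y : G ⧸ C_(W), y * t * y⁻¹ = t := fun y => by
      obtain ⟨g, rfl⟩ := QuotientGroup.mk_surjective y
      rw [← QuotientGroup.mk_inv, ← QuotientGroup.mk_mul, ← QuotientGroup.mk_mul, QuotientGroup.eq, mem_cent]
      intro w hw
      have e1 := hi _ (conj_mem_of_norm' (nm W g) (inv_mem hw))
      have e2 := hi _ hw
      rw [inv_eq_of_mul_eq_one_right t2] at e1 e2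
      calc w * ((g * t * g⁻¹)⁻¹ * t) = g * (g⁻¹ * w⁻¹ * g)⁻¹ * t⁻¹ * g⁻¹ * t := by group
        _ = g * t * g⁻¹ * (w⁻¹ * t) := by rw [← e1]; group
        _ = _ := by rw [← e2, mul_assoc (t * w), t2, mul_inv_rev, mul_inv_rev, inv_eq_of_mul_eq_one_right t2]; group
    have := A (zpowers (t : G ⧸ C_(W))) ⟨by rintro _ ⟨k, rfl⟩ y; exact ⟨k, by simp only [← conj_zpow, hc]⟩⟩ fun e =>
      h2 ((Nat.prime_dvd_prime_iff_eq hp Nat.prime_two).1 (e.trans (by
        rw [BG.card_zpowers, ← ht]; exact orderOf_map_dvd (QuotientGroup.mk' _) t)))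
    rw [zpowers_eq_bot, QuotientGroup.eq_one_iff] at this
    exact h2 (pg_prime_eq hp hD Nat.prime_two (ht ▸ BG.orderOf_dvd_card this)).symm
  · haveI := Cfsg.Agent.S0205.result ho
    haveI : Nontrivial (G ⧸ C_(W)) := ⟨⟨x, 1, ne_one_of_prime (hx ▸ hp)⟩⟩
    obtain ⟨V, hV, V0, -, -, r, hr, hVr⟩ := exists_minimal_normal_elementary (G := G ⧸ C_(W))
    by_cases e : r = p
    · subst e
      exact V0 (eq_bot_of_comap (hm _ inferInstance ((pg_of_pow hVr).comap_of_ker_isPGroup _ (by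
        rwa [QuotientGroup.ker_mk']))))
    · exact V0 (A V hV (pg_not_dvd hp hr (pg_of_pow hVr) (Ne.symm e)))

theorem pow_mul_mem {H : Subgroup G} {g h : G} (hg : g ∈ N_(H)) (hh : h ∈ H) (n : ℕ) :
    (g ^ n)⁻¹ * (g * h) ^ n ∈ H := by
  simpa [mul_assoc] using conj_mem_of_norm' (pow_mem hg n) (mul_pow_mem hg (conj_mem_of_norm hg hh) n)

theorem norm_mul {W : Subgroup G} (hW : W ≤ C_(W)) {g v w : G} (hg : g ∈ N_(W)) (hv : v ∈ W) (hw : w ∈ W) (n : ℕ) :
    (g ^ n)⁻¹ * (g * (v * w)) ^ n = (g ^ n)⁻¹ * (g * v) ^ n * ((g ^ n)⁻¹ * (g * w) ^ n) := by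
  induction n with
  | zero => simp
  | succ n ih =>
    have e := mem_cent.1 (hW hv) _ (conj_mem_of_norm' hg (pow_mul_mem hg hw n))
    calc _ = g⁻¹ * ((g ^ n)⁻¹ * (g * (v * w)) ^ n) * g * v * w := by rw [pow_succ, pow_succ]; group
      _ = g⁻¹ * ((g ^ n)⁻¹ * (g * v) ^ n) * g * (g⁻¹ * ((g ^ n)⁻¹ * (g * w) ^ n) * g * v) * w := by rw [ih]; group
      _ = _ := by rw [e, pow_succ, pow_succ, pow_succ]; group

theorem pg_of_ord (hp : p.Prime) {X : Subgroup G} (h : ∀ y ∈ X, (orderOf y).Prime → orderOf y = p) : IsPGroup p X :=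
  pg_of_card (Nat.eq_prime_pow_of_unique_prime_dvd Nat.card_pos.ne' fun hq hd => by
    obtain ⟨y, hy, e⟩ := exists_orderOf_eq_prime hq hd
    exact e ▸ h y hy (e ▸ hq))

theorem card_le_two {X : Subgroup G} (h : ∀ a ∈ X, ∀ b ∈ X, a ≠ 1 → b ≠ 1 → a * b = 1) : # X ≤ 2 := by
  by_cases X0 : X = ⊥
  · simp [X0]
  obtain ⟨a, ha, a1⟩ := exists_mem_ne_one X0
  refine (BG.card_le (B := zpowers a) fun b hb => ?_).trans ?_
  · by_cases b1 : b = 1
    · exact b1 ▸ one_mem _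
    · exact eq_inv_of_mul_eq_one_right (h a ha b hb a1 b1) ▸ inv_mem (mem_zpowers a)
  · rw [BG.card_zpowers]
    exact orderOf_le_of_pow_eq_one two_pos (by rw [pow_two, h a ha a ha a1 a1])

theorem card_le_two_mul {X H : Subgroup G} (h : ∀ a ∈ X, ∀ b ∈ X, a ∉ H → b ∉ H → a * b ∈ H) :
    # X ≤ 2 * # ↥(H ⊓ X) := by
  rw [← card_inf_mul_relIndex H X, mul_comm 2]
  refine Nat.mul_le_mul_left _ ?_
  by_cases e : X ≤ H
  · rw [relIndex_eq_one.2 e]; omega
  obtain ⟨a, ha, ha'⟩ := SetLike.not_le_iff_exists.1 e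
  refine (index_eq_two_iff.2 ⟨⟨a, ha⟩, fun b => ?_⟩).le
  by_cases hb : (b : G) ∈ H
  · exact Or.inr ⟨hb, fun c => ha' ((mul_mem_cancel_left hb).1 c)⟩
  · exact Or.inl ⟨h b b.2 a ha hb ha', hb⟩

theorem comm_of_sq {X : Subgroup G} (h : ∀ a ∈ X, a * a = 1) : X ≤ C_(X) := le_cent_iff.2 fun a ha b hb => by
  rw [← inv_eq_of_mul_eq_one_right (h _ (mul_mem ha hb)), mul_inv_rev, inv_eq_of_mul_eq_one_right (h a ha),
    inv_eq_of_mul_eq_one_right (h b hb)]

namespace Part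

variable {c : G → Subgroup G} (h : Part c) {x y z g : G}
include h

theorem ord_mk [(c z).Normal] (hg : g ∉ c z) : orderOf (g : G ⧸ c z) = orderOf g :=
  Nat.dvd_antisymm (orderOf_map_dvd (QuotientGroup.mk' _) g) (orderOf_dvd_of_pow_eq_one (h.pow hg (by
    rw [← QuotientGroup.eq_one_iff, QuotientGroup.mk_pow, pow_orderOf_eq_one])))

theorem lemQ [(c z).Normal] (hp : p.Prime) (hr : r.Prime) (hn : Group.IsNilpotent (c z)) (hd : r ∣ # (c z))
    {K : Subgroup (G ⧸ c z)} (hK : ¬ r ∣ # K) {x : G ⧸ c z} (hx : x ∈ N_(K)) (hx' : x ∉ K)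
    (h1 : ∀ u ∈ K, (x * u) ^ p = 1) : K = ⊥ := by
  obtain ⟨V, hV, V0, hVH, hc, hVr⟩ := exists_V hr hn hd
  haveI := abelian_iff.2 (hVH.trans hc)
  obtain ⟨x, rfl⟩ := QuotientGroup.mk_surjective x
  have := lemM (V := V) (Q := K.comap (QuotientGroup.mk' _)) (x := x) hp (top_le_norm _) (nm _ _)
    (le_normalizer_comap _ hx) (Nat.Coprime.coprime_dvd_left (relIndex_dvd_left _ hc) (by
      rw [relIndex_comap_mk]; exact cop hr hVr hK)) fun u hu v hv => by
    have e : ((v * (x * u) : G) : G ⧸ c z) = x * u := by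
      rw [QuotientGroup.mk_mul, (QuotientGroup.eq_one_iff v).2 (hVH hv), one_mul, QuotientGroup.mk_mul]
    refine h.pow (z := z) (fun a => hx' ?_) ?_
    · rw [← QuotientGroup.eq_one_iff, e, mul_eq_one_iff_eq_inv] at a
      exact a ▸ inv_mem hu
    · rw [← QuotientGroup.eq_one_iff, QuotientGroup.mk_pow, e]; exact h1 _ hu
  refine eq_bot_of_comap fun u hu => by_contra fun hu' => ?_
  obtain ⟨v, hv, e⟩ := exists_orderOf_eq_prime hr (pg_dvd hr hVr V0)
  have := (h.comm (mem_cent.1 (this hu) v hv) (hVH hv) hu' (ne_one_of_prime (e ▸ hr))).2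
  exact hK (by rw [← e, ← this, ← h.ord_mk hu']; exact BG.orderOf_dvd_card hu)

theorem nc_two [(c z).Normal] (hp : p.Prime) (hr : r.Prime) (hrp : r ≠ p) (h1 : c z ≠ ⊤) (hd : p ∣ # (c z))
    (hd' : r ∣ # (c z)) (hi : p ∣ (c z).index) : Hu G := by
  haveI := Fact.mk hp
  obtain ⟨g, hg⟩ : ∃ g, g ∉ c z := by
    by_contra hc
    push Not at hc
    exact h1 (eq_top_iff.2 fun a _ => hc a)
  have hn := h.nil (nm _ g) hg
  have k : ∀ y : G ⧸ c z, p ∣ orderOf y → orderOf y = p := fun y hy => by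
    obtain ⟨y, rfl⟩ := QuotientGroup.mk_surjective y
    have : y ∉ c z := fun e => by
      rw [(QuotientGroup.eq_one_iff y).2 e, orderOf_one] at hy
      exact hp.one_lt.ne' (Nat.dvd_one.1 hy)
    rw [h.ord_mk this] at hy ⊢
    exact h.key hp (nm _ _) this hd hy
  obtain ⟨P, hP⟩ := sylow_exists hp (⊤ : Subgroup (G ⧸ c z))
  have P0 : P ≠ ⊥ := hP.ne_bot' hp (by rwa [card_top])
  have hPp : # P = p := by
    have hle := le_comap_mk (c z) P
    rw [← relIndex_comap_mk]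
    refine ht hp hr hrp (H := (c z).subgroupOf _) (Group.nilpotent_of_mulEquiv (subgroupOfEquivOfLe hle).symm)
      (by rwa [card_subgroupOf_of_le hle]) (fun y hy => Subtype.ext ?_) fun e => P0 (eq_bot_of_comap
        (subgroupOf_eq_top.1 e))
    have hy' : (y : G) ∉ c z := hy
    have := k (y : G) (pg_dvd hp (pg_le (hP.pg hp) (zpowers_le.2 y.2)) (zpowers_ne_bot
      (mt (QuotientGroup.eq_one_iff _).1 hy')) |>.trans (BG.card_zpowers _).dvd)
    rw [coe_pow, ← this, h.ord_mk hy', pow_orderOf_eq_one, coe_one]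
  obtain ⟨x, hx, hxp⟩ := exists_orderOf_eq_prime hp hPp.symm.dvd
  have hN : ∀ y ∈ N_(P), y ∉ P → ¬ p ∣ orderOf y := fun y hy hy' e => hy' (zpowers_le.1
    (hP.le_of_norm_pg' hp (pg_of_card_eq (by rw [BG.card_zpowers, k y e])) le_top (zpowers_le.2 hy)))
  by_cases hNP : N_(P) ≤ P
  · obtain ⟨K, hK, hc⟩ := Cfsg.Agent.S0087.result P (by
      rw [← relIndex_top_right]; exact (hP.coprime : _)) (hNP.trans (abelian_iff.1 (abelian_of_cyclic
        (cyclic_of_prime (hPp ▸ hp)))))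
    have hKp : ¬ p ∣ # K := by
      rw [← hc.index_eq_card, ← relIndex_top_right]; exact hP.not_dvd' hp
    have hxK : x ∉ K := fun e => hKp (hxp ▸ BG.orderOf_dvd_card e)
    have := h.lemQ hp hp hn hd hKp (nm _ x) hxK fun u hu => by
      rw [← k _ (dvd_ord' hp (nm _ x) hxK (by rw [← hxp, pow_orderOf_eq_one]; exact one_mem _) hu), pow_orderOf_eq_one]
    refine hu_of hp h1 fun g hg => h.pow hg ?_
    rw [← QuotientGroup.eq_one_iff, QuotientGroup.mk_pow, ← hPp]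
    refine BG.pow_card_eq_one ?_
    rw [show P = ⊤ by simpa [this] using hc.sup_eq_top]; trivial
  · obtain ⟨y, hy, hy'⟩ := SetLike.not_le_iff_exists.1 hNP
    obtain ⟨w, hw, hq⟩ := exists_prime_ord (g := y) (by rintro rfl; exact hy' (one_mem _))
    have hw1 : w ∈ N_(P) := zpowers_le.2 hy hw
    have hw2 : w ∉ P := fun e => hN y hy hy' (((Nat.prime_dvd_prime_iff_eq hq hp).1
      (hPp ▸ BG.orderOf_dvd_card e)).symm.dvd.trans (orderOf_dvd_of_mem_zpowers hw))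
    refine absurd (h.lemQ hq hr hn hd' (by rw [hPp]; exact mt (Nat.prime_dvd_prime_iff_eq hr hp).1 hrp) hw1 hw2
      fun u hu => ?_) P0
    have e : w * u = w * u * w⁻¹ * w := by group
    have h3 : (w * u) ^ orderOf w ∈ P := by simpa using mul_pow_mem hw1 (conj_mem_of_norm hw1 hu) (orderOf w)
    by_contra a
    refine hN _ (mul_mem hw1 (le_norm P hu)) (fun b => hw2 ((mul_mem_cancel_right hu).1 b)) (dvd_trans ?_
      (orderOf_pow_dvd (orderOf w)))
    rw [← BG.card_zpowers, zpowers_eq_of_prime (hPp ▸ hp) h3 a, hPp]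

theorem nc [(c z).Normal] (z1 : z ≠ 1) (h1 : c z ≠ ⊤) : Hu G ∨ Fr G := by
  have H0 := ne_bot_of_mem (h.mem z) z1
  by_cases hc : (# (c z)).Coprime (c z).index
  · refine Or.inr (fr_of H0 h1 hc fun k hk k1 x e hx => ?_)
    by_cases hx' : x ∈ c z
    · exact BG.orderOf_dvd_card hx'
    · exact (h.comm e.symm hk hx' k1).2 ▸ BG.orderOf_dvd_card hk
  obtain ⟨p, hp, hd, hi⟩ := Nat.Prime.not_coprime_iff_dvd.1 hc
  by_cases hH : ∃ r : ℕ, r.Prime ∧ r ∣ # (c z) ∧ r ≠ p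
  · obtain ⟨r, hr, hd', hrp⟩ := hH
    exact Or.inl (h.nc_two hp hr hrp h1 hd hd' hi)
  push Not at hH
  have hH : IsPGroup p (c z) := pg_of_card (Nat.eq_prime_pow_of_unique_prime_dvd Nat.card_pos.ne'
    fun hd hd' => hH _ hd hd')
  have k : ∀ g, g ∉ c z → p ∣ orderOf g → orderOf g = p := fun g hg => h.key hp (nm _ _) hg hd
  set F := piCoreOf {p} (⊤ : Subgroup G)
  have hF : IsPGroup p F := pcore_pg hp _
  haveI : F.Normal := normal_of _ (le_norm_pcore _ _)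
  have hHF : c z ≤ F := le_pcore_pg hp hH le_top (top_le_norm _)
  by_cases F1 : F = ⊤
  · refine Or.inl (hu_of hp h1 fun g hg => ?_)
    rw [← k g hg ((pg_dvd hp (pg_le hF (F1 ▸ le_top)) (zpowers_ne_bot (x := g) (by
      rintro rfl; exact hg (one_mem _)))).trans (BG.card_zpowers _).dvd), pow_orderOf_eq_one]
  by_cases hi' : p ∣ F.index
  swap
  · refine Or.inr (fr_of (ne_bot_mono H0 hHF) F1 (by
      obtain ⟨n, hn⟩ := pg_card hp hF
      exact hn ▸ (hp.coprime_iff_not_dvd.2 hi').pow_left n) fun d hd' d1 x e hx => ?_)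
    by_contra a
    have hxH : x ∉ c z := fun b => a (BG.orderOf_dvd_card (hHF b))
    by_cases b : d ∈ c z
    · exact a ((h.comm e.symm b hxH d1).2 ▸ BG.orderOf_dvd_card hd')
    have co : (orderOf x).Coprime (orderOf d) := (hx.coprime_iff_not_dvd.2 a).coprime_dvd_right (BG.orderOf_dvd_card hd')
    have e1 := NS.ord_mul e co
    have e2 := k (x * d) (fun b => a (BG.orderOf_dvd_card ((mul_mem_cancel_right hd').1 (hHF b)))) (by
      rw [e1]
      exact ((pg_dvd hp (pg_le hF (zpowers_le.2 hd')) (zpowers_ne_bot d1)).trans (BG.card_zpowers _).dvd).mul_left _)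
    exact a (((Dvd.intro _ (e1.symm.trans e2)).trans hd).trans (BG.card_dvd hHF))
  exfalso
  set W := omegaOne p (c z ⊓ C_(F))
  have hWH : W ≤ c z := (omega_le _ _).trans inf_le_left
  have hFW : F ≤ C_(W) := cent_symm ((omega_le _ _).trans inf_le_right)
  haveI : W.Normal := normal_of _ (norm_omega _ (norm_inf (top_le_norm _) (norm_cent (top_le_norm _))))
  obtain ⟨w, hw, w1⟩ := exists_mem_ne_one (A := W) (omega_ne_bot hp (pg_le hH inf_le_left)
    (nil_meet_center (pg_nil hp hF) hHF (top_le_norm _) H0))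
  have hWp : ∀ v ∈ W, v ^ p = 1 := fun v hv => (omega_elemAb p (abelian_iff.2 (le_cent_mono le_rfl inf_le_right
    (inf_le_left.trans hHF)))).pow hv
  have hD : IsPGroup p C_(W) := fun g => by
    by_cases hg : (g : G) ∈ c z
    · obtain ⟨n, hn⟩ := hH ⟨g, hg⟩
      exact ⟨n, Subtype.ext (by simpa using congrArg Subtype.val hn)⟩
    · exact ⟨1, Subtype.ext (by
        simpa using orderOf_dvd_iff_pow_eq_one.1 ((h.comm (mem_cent.1 g.2 w hw) (hWH hw) hg w1).2 ▸
          orderOf_dvd_of_pow_eq_one (hWp w hw)))⟩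
  have hDF : C_(W) = F := le_antisymm (le_pcore_pg hp hD le_top (top_le_norm _)) hFW
  by_cases p2 : p = 2
  · subst p2
    obtain ⟨x, hx⟩ := exists_prime_orderOf_dvd_card' (G := G ⧸ F) 2 hi'
    obtain ⟨x, rfl⟩ := QuotientGroup.mk_surjective x
    have x1 : x ∉ F := mt (QuotientGroup.eq_one_iff x).2 (ne_one_of_prime (hx ▸ hp))
    have x2 := k x (fun e => x1 (hHF e)) (hx ▸ orderOf_map_dvd (QuotientGroup.mk' F) x)
    refine x1 (hDF ▸ mem_cent.2 fun v hv => ?_)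
    have := h.inv (nm _ x) (fun e => x1 (hHF e)) (by rw [← pow_two, ← x2, pow_orderOf_eq_one]) (hWH hv)
    rw [inv_eq_of_mul_eq_one_right (a := v) (pow_two v ▸ hWp v hv)] at this
    exact (mul_inv_eq_iff_eq_mul.1 this).symm
  refine fin hp p2 ((hWH.trans hHF).trans hFW) hD (fun K _ hK => hDF ▸ le_pcore_pg hp hK le_top (top_le_norm _))
    (fun g hg e => by rw [← k g (fun a => hg (hFW (hHF a))) e, pow_orderOf_eq_one]) (fun t ht => fpf_iff.2
      fun v hv e => by_contra fun v1 => p2 ?_) (hDF ▸ hi')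
  have := (h.comm e.symm (hWH hv) (fun a => p2 (pg_prime_eq hp hH Nat.prime_two
    (ht ▸ BG.orderOf_dvd_card a)).symm) v1).2
  exact ((Nat.prime_dvd_prime_iff_eq Nat.prime_two hp).1 (ht ▸ this ▸ orderOf_dvd_of_pow_eq_one (hWp v hv))).symm

/-- either `C(z)` has exponent two or its part in the component has index at most two -/
theorem two_cases {X : Subgroup G} (hz : orderOf z = 2) (hX : X ≤ C_[z]) :
    (∀ a ∈ X, a * a = 1) ∨ ∀ a ∈ X, ∀ b ∈ X, a ∉ c z → b ∉ c z → a * b ∈ c z := by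
  have z1 := ne_one_of_prime (hz ▸ Nat.prime_two)
  have k : ∀ a ∈ X, a ∉ c z → a * a = 1 := fun a ha ha' => by
    rw [← pow_two, ← hz, ← (h.comm (mem_cent1.1 (hX ha)).symm (h.mem z) ha' z1).2, pow_orderOf_eq_one]
  have ki : ∀ a ∈ X, a ∉ c z → ∀ x ∈ c z, a * x * a⁻¹ = x⁻¹ := fun a ha ha' x hx =>
    h.inv (h.cent_le (h.mem z) z1 (hX ha)) ha' (k a ha ha') hx
  by_contra hc
  push Not at hc
  obtain ⟨⟨x, hx, x2⟩, a, ha, b, hb, ha', hb', hab⟩ := hc
  have hx' : x ∈ c z := by_contra fun e => x2 (k x hx e)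
  have e := ki _ (mul_mem ha hb) hab x hx'
  rw [show a * b * x * (a * b)⁻¹ = a * (b * x * b⁻¹) * a⁻¹ by group, ki b hb hb' x hx', ki a ha ha' _ (inv_mem hx'),
    inv_inv] at e
  exact x2 (by nth_rewrite 1 [e]; simp)

theorem eq_bot (hno : ∀ z, z ≠ 1 → ¬ (c z).Normal) {N : Subgroup G} [N.Normal] (hN : N ≤ c z) : N = ⊥ := by
  by_contra e
  obtain ⟨x, hx, x1⟩ := exists_mem_ne_one e
  exact hno x x1 (h.eq (hN hx) x1 ▸ normal_of _ ((top_le_norm _).trans (h.norm_le hN e)))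

theorem nn (hp : p.Prime) (hno : ∀ z, z ≠ 1 → ¬ (c z).Normal) (F0 : piCoreOf {p} (⊤ : Subgroup G) ≠ ⊥) :
    Fr G ∨ Nonempty (G ≃* Equiv.Perm (Fin 4)) := by
  set F := piCoreOf {p} (⊤ : Subgroup G)
  have hF : IsPGroup p F := pcore_pg hp _
  haveI : F.Normal := normal_of _ (le_norm_pcore _ _)
  set W := omegaOne p (F ⊓ C_(F))
  have hWF : W ≤ F := omega_center_le _ _
  have hFW : F ≤ C_(W) := cent_symm (omega_center_le_cent _ _)
  haveI : W.Normal := normal_of _ (norm_omega_center _ (top_le_norm _))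
  have W0 : W ≠ ⊥ := omega_center_ne_bot hp hF F0
  have hWp : ∀ v ∈ W, v ^ p = 1 := fun v hv => (omega_center_elemAb p F).pow hv
  have hWo : ∀ v ∈ W, (orderOf v).Prime → orderOf v = p := fun v hv e =>
    (Nat.prime_dvd_prime_iff_eq e hp).1 (orderOf_dvd_of_pow_eq_one (hWp v hv))
  have hWN : ∀ f ∈ F, f ≠ 1 → W ≤ N_(c f) := fun f hf f1 =>
    (le_cent1_iff.2 (hFW hf)).trans (h.cent_le (h.mem f) f1)
  have h2 : ∀ f ∈ F, f ≠ 1 → ∀ y ∈ c f, (orderOf y).Prime → orderOf y = p := fun f hf f1 y hy hq => by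
    by_contra e
    refine W0 (h.eq_bot hno (z := f) ?_)
    rw [← coprime_comm_sup_cent (A := zpowers y) (K := W) (top_le_norm _) (cop hp (pg_le hF hWF) (by
      rw [BG.card_zpowers]; exact mt (Nat.prime_dvd_prime_iff_eq hp hq).1 (Ne.symm e))) (Or.inr (pg_sol hp (pg_le hF hWF)))]
    refine sup_le ((comm_mono le_rfl (zpowers_le.2 hy)).trans (comm_le_right (hWN f hf f1))) fun w hw => by_contra fun a => ?_
    have := h.comm (mem_cent.1 hw.2 y (mem_zpowers y)) hy a (ne_one_of_prime hq)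
    exact e (this.2 ▸ hWo w hw.1 (this.2 ▸ hq))
  have h3 : ∀ f ∈ F, f ≠ 1 → ∀ y, y * f = f * y → (orderOf y).Prime → orderOf y = p := fun f hf f1 y e hq => by
    by_cases hy : y ∈ c f
    · exact h2 f hf f1 y hy hq
    · exact pg_prime_eq hp hF hq ((h.comm e.symm (h.mem f) hy f1).2 ▸ BG.orderOf_dvd_card hf)
  obtain ⟨w, hw, w1⟩ := exists_mem_ne_one W0
  have hD : IsPGroup p C_(W) := pg_of_ord hp fun y hy => h3 w (hWF hw) w1 y (mem_cent.1 hy w hw).symm
  have hDF : C_(W) = F := le_antisymm (le_pcore_pg hp hD le_top (top_le_norm _)) hFW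
  have cen : ∀ z : G, z ≠ 1 → C_[z] ≠ ⊤ := fun z z1 e => hno z z1 (normal_of _ (e ▸ h.cent_le (h.mem z) z1))
  have F1 : F ≠ ⊤ := fun e => cen w w1 (eq_top_iff.2 (e ▸ hFW.trans (cent_le_cent1 hw)))
  by_cases hi : p ∣ F.index
  swap
  · exact Or.inl (fr_of F0 F1 (cop hp hF hi).symm fun d hd d1 x e hx => h3 d hd d1 x e hx ▸ pg_dvd hp hF F0)
  by_cases p2 : p = 2
  swap
  · refine absurd (hDF ▸ hi) (fin hp p2 (hWF.trans hFW) hD
      (fun K _ hK => hDF ▸ le_pcore_pg hp hK le_top (top_le_norm _)) (fun g _ hg => ?_) fun t ht => fpf_iff.2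
        fun v hv e => by_contra fun v1 => p2 (ht ▸ h3 v (hWF hv) v1 t e (ht ▸ Nat.prime_two)).symm)
    have h4 : IsPGroup p (zpowers g) := pg_of_ord hp fun y hy hq => by_contra fun e => by
      obtain ⟨x, hx, hxp⟩ := exists_ord hp hg
      obtain ⟨v, hv, v1⟩ := exists_mem_ne_one (pg_fix_ne_bot hp (A := zpowers x) (pg_of_card_eq (by
        rwa [BG.card_zpowers])) (pg_le hF hWF) (top_le_norm _) W0)
      have k : ∀ f ∈ W, f ∈ c g → f = 1 := fun f hf hf' => by_contra fun f1 =>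
        e (h2 f (hWF hf) f1 y (h.eq hf' f1 ▸ h.zp_le g hy) hq)
      have hv' := h.norm' (h.zp_le g hx) (ne_one_of_prime (hxp ▸ hp)) (mem_cent.1 hv.2 x (mem_zpowers x)).symm
      have := k (v * y * v⁻¹ * y⁻¹) (by simpa [mul_assoc] using mul_mem hv.1 (conj_mem_of_norm (nm W y) (inv_mem hv.1)))
        (mul_mem (conj_mem_of_norm hv' (h.zp_le g hy)) (inv_mem (h.zp_le g hy)))
      exact e (h3 v (hWF hv.1) v1 y (by rw [mul_inv_eq_one, mul_inv_eq_iff_eq_mul] at this; exact this.symm) hq)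
    obtain ⟨v, hv, v1⟩ := exists_mem_ne_one (pg_fix_ne_bot hp h4 (pg_le hF hWF) (top_le_norm _) W0)
    by_cases hvg : v ∈ c g
    swap
    · have := h.comm (mem_cent.1 hv.2 g (mem_zpowers g)) (h.mem g) hvg (by
        rintro rfl; exact hp.one_lt.ne' (by simpa using hg))
      exact orderOf_dvd_iff_pow_eq_one.1 (this.2 ▸ orderOf_dvd_of_pow_eq_one (hWp v hv.1))
    have hN : W ≤ N_(c g) := h.eq hvg v1 ▸ hWN v (hWF hv.1) v1
    obtain ⟨u, hu, hu'⟩ := SetLike.not_le_iff_exists.1 fun e => W0 (h.eq_bot hno (z := g) e)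
    have e1 := h.coset (hN hu) hu' (hWp u hu) (h.mem g)
    have e2 := h.coset (hN (mul_mem hu hu)) (fun e => hu' (mem_of_pow ((Nat.coprime_primes hp Nat.prime_two).2 p2)
      (hWp u hu ▸ one_mem _) (pow_two u ▸ e))) (hWp _ (mul_mem hu hu)) (h.mem g)
    have := norm_mul (hWF.trans hFW) (nm W g) hu hu p
    simpa [e1, e2] using this
  subst p2
  right
  obtain ⟨P, hP⟩ := sylow_exists hp (⊤ : Subgroup G)
  have hFP : F ≤ P := hP.le_of_norm_pg hp hF le_top (top_le_norm _)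
  obtain ⟨z, hz, z1⟩ := exists_mem_ne_one (pg_fix_ne_bot hp (hP.pg hp) (pg_le hF hWF) (top_le_norm _) W0)
  have hPz : P ≤ C_[z] := le_cent1_iff.2 hz.2
  have hPF : ¬ P ≤ F := fun e => hP.not_dvd' hp (le_antisymm e hFP ▸ (relIndex_top_right F).symm ▸ hi)
  have k := (h.two_cases (orderOf_eq_prime (hWp z hz.1) z1) hPz).resolve_left fun e =>
    hPF (hDF ▸ (comm_of_sq e).trans (cent_anti (hWF.trans hFP)))
  obtain ⟨g, hg⟩ : ∃ g, g ∉ N_(c z) := by
    by_contra hc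
    push Not at hc
    exact hno z z1 (normal_of _ fun g _ => hc g)
  have hg' : ∀ a ∈ c z, g * a * g⁻¹ ∈ c z → a = 1 := fun a ha e => by_contra fun a1 => hg (h.norm ha a1 e)
  have c1 : # ↥(c z ⊓ F) ≤ 2 := card_le_two fun a ha b hb a1 b1 => hg' _ (mul_mem ha.1 hb.1) (by
    simpa [mul_assoc] using k _ (hFP (conj_mem_of_norm (nm F g) ha.2)) _ (hFP (conj_mem_of_norm (nm F g) hb.2))
      (fun e => a1 (hg' a ha.1 e)) fun e => b1 (hg' b hb.1 e))
  have c2 : # F ≤ 4 := (card_le_two_mul fun a ha b hb => k a (hFP ha) b (hFP hb)).trans (by omega)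
  have c3 : 2 < # W := by
    have := card_lt (lt_of_le_of_ne (zpowers_le.2 hz.1) fun e => W0 (h.eq_bot hno (z := z) (e ▸ h.zp_le z)))
    rwa [BG.card_zpowers, orderOf_eq_prime (hWp z hz.1) z1] at this
  have c4 : # W = 4 := by
    have := BG.card_le hWF
    obtain ⟨k, hk⟩ := pg_dvd hp (pg_le hF hWF) W0
    omega
  have c5 : # F = 4 := le_antisymm c2 (c4 ▸ BG.card_le hWF)
  have c6 : F.index ∣ 6 := by
    have := (H01.relIndex_cent_dvd (top_le_norm (V := W) ⊤)).trans (H19.card_mulAut_dvd_factorial W)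
    rwa [relIndex_top_right, hDF, c4] at this
  refine L.iso_S4 (fun N _ hN => ?_) ?_
  · obtain ⟨x, rfl⟩ := cyclic_iff.1 hN
    exact h.eq_bot hno (h.zp_le x)
  have c7 := F.card_mul_index
  have c8 : F.index ≠ 2 := fun e => F1 (eq_top_iff.2 (le_pcore_pg hp (pg_of_card (n := 3) (by
    rw [card_top, ← c7, c5, e]; rfl)) le_rfl le_norm_top))
  have := Nat.le_of_dvd (by norm_num) c6
  rw [← c7, c5]
  generalize F.index = n at *
  interval_cases n <;> omega

end Part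

end H02.PT
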