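import Cfsg.Agent.H17.AL0
import Cfsg.Agent.H02.PPrimeCore

set_option autoImplicit false

namespace H02.AlO
open Subgroup Cfsg H17.AL

universe u v

variable {G : Type u} [Group G] [Finite G] {F : Type v} [Field F] {z t s : G} {T : Subgroup G}

theorem fpf (h : Lo F z t s T) (N : Subgroup G) [hN : N.Normal] (hz : z ∉ N) :
    MonoidHom.FixedPointFree (MulAut.conjNormal (H := N) z) ∧ Function.Involutive (MulAut.conjNormal (H := N) z) := by
  have hzz : z * z = 1 := by have := pow_orderOf_eq_one z; rwa [h.z2, pow_two] at this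
  constructor
  · intro g hg
    have h0 := h.nz (N ⊓ centralizer {z}) inf_le_right (by
      intro a ha
      rw [Subgroup.mem_normalizer_iff]
      intro k
      have e : ∀ b ∈ centralizer ({z} : Set G), ∀ k ∈ N ⊓ centralizer {z}, b * k * b⁻¹ ∈ N ⊓ centralizer {z} :=
        fun b hb k hk => ⟨hN.conj_mem _ hk.1 b, Subgroup.mul_mem _ (Subgroup.mul_mem _ hb hk.2) (Subgroup.inv_mem _ hb)⟩
      exact ⟨e a ha k, fun hk => by simpa [mul_assoc] using e a⁻¹ (inv_mem ha) _ hk⟩) (fun hh => hz hh.1)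
    have h1 : z * g * z⁻¹ = g := congrArg Subtype.val hg
    have h2 : (g : G) ∈ N ⊓ centralizer {z} := ⟨g.2, by
      show (g : G) ∈ centralizer {z}
      rw [mem_centralizer_singleton_iff]
      calc (g : G) * z = z * g * z⁻¹ * z := by rw [h1]
        _ = z * g := by group⟩
    rw [h0, mem_bot] at h2
    exact Subtype.ext h2
  · intro g
    apply Subtype.ext
    show z * (z * g * z⁻¹) * z⁻¹ = g
    calc z * (z * g * z⁻¹) * z⁻¹ = (z * z) * g * (z * z)⁻¹ := by group
      _ = g := by rw [hzz]; group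

theorem inv (h : Lo F z t s T) (N : Subgroup G) [hN : N.Normal] (hz : z ∉ N) {x : G} (hx : x ∈ N) :
    z * x * z⁻¹ = x⁻¹ :=
  congrArg Subtype.val (congrFun ((fpf h N hz).1.coe_eq_inv_of_involutive (fpf h N hz).2) ⟨x, hx⟩)

theorem comm (h : Lo F z t s T) (N : Subgroup G) [hN : N.Normal] (hz : z ∉ N) : IsMulCommutative N :=
  ⟨⟨fun a b => ((fpf h N hz).1.commute_all_of_involutive (fpf h N hz).2 a b).eq⟩⟩

theorem o : OStmt.{u, v} := by
  intro G _ _ F _ z t s T h
  have hodd : Odd (Nat.card (oddCore G)) := Nat.coprime_two_right.1 (H02.pPrimeCore_coprime 2 G)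
  have hz : z ∉ oddCore G := fun hz => by
    have := Subgroup.orderOf_dvd_natCard _ hz
    rw [h.z2] at this
    exact (Nat.not_even_iff_odd.2 hodd) (even_iff_two_dvd.2 this)
  refine ⟨comm h _ hz, fun hns => ?_⟩
  by_contra hO
  apply hns
  set C := centralizer (oddCore G : Set G) with hC
  have hzC : z ∉ C := by
    intro hc
    obtain ⟨⟨x, hx⟩, hx1⟩ := Subgroup.ne_bot_iff_exists_ne_one.1 hO
    apply hx1
    apply (fpf h _ hz).1
    apply Subtype.ext
    show z * x * z⁻¹ = x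
    rw [← hc x hx]; group
  have hsurj : Function.Surjective ((QuotientGroup.mk' C).comp (centralizer ({z} : Set G)).subtype) := by
    intro q
    obtain ⟨g, rfl⟩ := QuotientGroup.mk'_surjective C q
    have hc : g * z * g⁻¹ * z⁻¹ ∈ C := by
      intro x hx
      have hx : x ∈ oddCore G := hx
      have e1 := inv h _ hz (Subgroup.Normal.conj_mem' inferInstance _ (inv_mem hx) z)
      have e2 := inv h _ hz (Subgroup.Normal.conj_mem' inferInstance _
        (Subgroup.Normal.conj_mem' inferInstance _ hx z) g)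
      have e3 : z⁻¹ * x * z = x⁻¹ := by
        calc z⁻¹ * x * z = (z⁻¹ * x⁻¹ * z)⁻¹ := by group
          _ = z * (z⁻¹ * x⁻¹ * z) * z⁻¹ := e1.symm
          _ = x⁻¹ := by group
      rw [e3] at e2
      calc x * (g * z * g⁻¹ * z⁻¹) = g * (g⁻¹ * x⁻¹ * g)⁻¹ * z * g⁻¹ * z⁻¹ := by group
        _ = g * (z * (g⁻¹ * x⁻¹ * g) * z⁻¹) * z * g⁻¹ * z⁻¹ := by rw [e2]
        _ = g * z * g⁻¹ * x⁻¹ * z⁻¹ := by group
        _ = g * z * g⁻¹ * (z⁻¹ * x * z) * z⁻¹ := by rw [e3]
        _ = g * z * g⁻¹ * z⁻¹ * x := by group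
    obtain ⟨d, hd⟩ := (fpf h C hzC).1.commutatorMap_surjective ⟨_, hc⟩
    have hd' : (d : G) / (z * d * z⁻¹) = g * z * g⁻¹ * z⁻¹ := congrArg Subtype.val hd
    refine ⟨⟨(d : G)⁻¹ * g, ?_⟩, ?_⟩
    · rw [mem_centralizer_singleton_iff]
      calc (d : G)⁻¹ * g * z = (d : G)⁻¹ * (g * z * g⁻¹ * z⁻¹) * z * g := by group
        _ = (d : G)⁻¹ * ((d : G) / (z * d * z⁻¹)) * z * g := by rw [hd']
        _ = z * ((d : G)⁻¹ * g) := by rw [div_eq_mul_inv]; group
    · show QuotientGroup.mk' C ((d : G)⁻¹ * g) = QuotientGroup.mk' C g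
      rw [map_mul, map_inv, QuotientGroup.mk'_apply, (QuotientGroup.eq_one_iff _).2 d.2, inv_one, one_mul]
  haveI := h.sol
  haveI : Group.IsSolvable (G ⧸ C) := solvable_of_surjective hsurj
  haveI := comm h C hzC
  haveI : Group.IsSolvable C := isSolvable_of_comm (fun a b => mul_comm' a b)
  exact solvable_of_ker_le_range C.subtype (QuotientGroup.mk' C) (by simp)

end H02.AlO
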