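import Mathlib
import Cfsg.Agent.S4240
import Cfsg.Agent.S2756
import Cfsg.Agent.S0659
import Cfsg.Agent.H03.Ctl2

/-! Coprime action: proper invariant subgroups of order divisible by `p` nilpotent ⇒ solvable. -/

set_option linter.unusedSectionVars false
set_option linter.unusedVariables false
set_option linter.style.haveILetI false

namespace H02.Inv

open Cfsg Subgroup H27 H26
open scoped commutatorElement Pointwise

local notation "#" => Nat.card
local notation "Sol" => Group.IsSolvable
local notation "Nil" => Group.IsNilpotent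

universe v
variable {A : Type*} [Group A] [Finite A] {G : Type v} [Group G] [Finite G] {φ : A →* MulAut G}

theorem zj_map (f : MulAut G) (P : Subgroup G) :
    centerThompsonAOf (P.map f.toMonoidHom) = (centerThompsonAOf P).map f.toMonoidHom := by
  rw [H17.centerThompsonAOf_eq, H17.centerThompsonAOf_eq, H17.centerThompsonOf_map _ f.injective.injOn]

theorem inv_zj {P : Subgroup G} (h : Inv φ P) : Inv φ (centerThompsonAOf P) :=
  inv_of_map_eq fun a => by rw [← zj_map, h.map_eq]

theorem zj_le (P : Subgroup G) : centerThompsonAOf P ≤ P := by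
  rw [H17.centerThompsonAOf_eq]; exact H17.centerThompsonOf_le _ _

theorem zj_ne {q : ℕ} [Fact q.Prime] {P : Subgroup G} (hP : IsPGroup q P) (h : P ≠ ⊥) :
    centerThompsonAOf P ≠ ⊥ := fun e => H02.inf_centralizer_ne_bot' hP h (eq_bot_iff.2 (by
  rw [← e, H17.centerThompsonAOf_eq]; exact H03.center_le_zj P))

theorem norm_le_zj (P : Subgroup G) : normalizer (P : Set G) ≤ normalizer (centerThompsonAOf P : Set G) := by
  rw [H17.centerThompsonAOf_eq]; exact H17.normalizer_le_normalizer_centerThompsonOf _ _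

theorem card_nzj {q : ℕ} [Fact q.Prime] (S T : Sylow q G) :
    # (normalizer (centerThompsonAOf (S : Subgroup G) : Set G)) =
      # (normalizer (centerThompsonAOf (T : Subgroup G) : Set G)) := by
  obtain ⟨g, -, hg⟩ := (isSyl_top S).exists_cj_eq (isSyl_top T)
  rw [← hg, zj_map, ← map_equiv_normalizer_eq]
  exact (card_map_inj (MulAut.conj g).injective _).symm

theorem sol_pg {q : ℕ} [Fact q.Prime] {P : Subgroup G} (hP : IsPGroup q P) : Sol P := by
  have := hP.isNilpotent
  infer_instance

/-- the case without proper invariant normal subgroups -/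
theorem simple_case [Sol A] (hc : (# A).Coprime (# G)) {p : ℕ} (hp : p.Prime) (hpG : p ∣ # G)
    (h : ∀ H : Subgroup G, H ≠ ⊤ → Inv φ H → p ∣ # H → Nil H)
    (h1 : ∀ N : Subgroup G, N.Normal → Inv φ N → N ≠ ⊥ → N = ⊤) : Sol G := by
  by_contra hs
  have hpg : ∀ (q : ℕ) [Fact q.Prime], ¬ IsPGroup q G := fun q _ h => hs (by
    have := h.isNilpotent
    infer_instance)
  have key : ∀ (q : ℕ) [Fact q.Prime], q ≠ 2 → q ∣ # G → ∀ T : Sylow q G,
      ¬ p ∣ # (normalizer (centerThompsonAOf (T : Subgroup G) : Set G)) := by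
    intro q hq h2 hd T hT
    obtain ⟨Q, hQ, h3, -⟩ := exists_inv_isSyl (φ := φ) (K := ⊤) (by rwa [card_top])
      (Or.inl inferInstance) inv_top inv_bot (IsPGroup.of_bot (p := q)) bot_le
    have h0 := hQ.ne_bot (by rwa [card_top])
    obtain ⟨Q, rfl⟩ := hQ.exists_sylow_top
    rw [card_nzj T Q] at hT
    haveI := h _ (fun e => by
      haveI := normalizer_eq_top_iff.1 e
      have h5 := h1 _ this (inv_zj h3) (zj_ne Q.isPGroup' h0)
      exact hpg q ((Q.isPGroup'.to_le (h5.ge.trans (zj_le _))).of_equiv topEquiv)) (inv_zj h3).normalizer hT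
    have hN := Cfsg.Agent.S0659.result h2 Q H03.hasNPC_of_isNilpotent
    by_cases h5 : pResidual q G = ⊥
    · exact hpg q (H03.pResidual_eq_bot_iff.1 h5)
    · rw [H03.hasNPC_iff_not_dvd_card_pResidual, h1 _ inferInstance (inv_of_characteristic _) h5,
        card_top] at hN
      exact hN hd
  haveI := Fact.mk hp
  by_cases h2 : p = 2
  · subst h2
    obtain ⟨P⟩ : Nonempty (Sylow 2 G) := inferInstance
    haveI : (P : Subgroup G).Normal := Cfsg.Agent.S2756.result.1.2 (fun q _ h2 hd T R => by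
      have h5 := eq_bot_of_isPGroup_of_not_dvd R.isPGroup' le_top (by rw [card_top]; exact key q h2 hd T)
      rw [h5]; infer_instance) P
    haveI : (P : Subgroup G).Characteristic := Sylow.characteristic_of_normal P this
    have h5 := h1 P inferInstance (inv_of_characteristic _) ((isSyl_top P).ne_bot (by rwa [card_top]))
    exact hpg 2 ((h5 ▸ P.isPGroup').of_equiv topEquiv)
  · obtain ⟨P⟩ : Nonempty (Sylow p G) := inferInstance
    exact key p h2 hpG P (dvd_card_of_isPGroup P.isPGroup' ((isSyl_top P).ne_bot (by rwa [card_top]))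
      (le_normalizer.trans (norm_le_zj _)))

/-- a normal invariant `p'`-subgroup centralizes a Sylow `p`-subgroup -/
theorem le_cent [Sol A] (hc : (# A).Coprime (# G)) {p : ℕ} [hp : Fact p.Prime] (hpG : p ∣ # G)
    (h : ∀ H : Subgroup G, H ≠ ⊤ → Inv φ H → p ∣ # H → Nil H)
    (h0 : ∀ N : Subgroup G, N.Normal → Inv φ N → Sol N → N = ⊥)
    {N : Subgroup G} [N.Normal] (hN : Inv φ N) (hpN : ¬ p ∣ # N) {P : Subgroup G} (hP : IsSyl p P ⊤) :
    N ≤ centralizer (P : Set G) := by
  rw [← relIndex_eq_one]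
  by_contra h1
  obtain ⟨q, hq, hd⟩ := Nat.exists_prime_and_dvd h1
  haveI := Fact.mk hq
  have hqN : q ∣ # N := hd.trans (relIndex_dvd_card _ _)
  have hqp : q ≠ p := fun e => hpN (e ▸ hqN)
  obtain ⟨Q, hQ, h3, -⟩ := exists_inv_isSyl (φ := φ) (K := N)
    (hc.coprime_dvd_right (card_subgroup_dvd_card N))
    (Or.inl inferInstance) hN inv_bot (IsPGroup.of_bot (p := q)) bot_le
  have hM : normalizer (Q : Set G) ≠ ⊤ := fun e => hQ.ne_bot hqN
    (h0 Q (normalizer_eq_top_iff.1 e) h3 (sol_pg hQ.pg))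
  have hF := hQ.frattini_sup le_top (H01.le_normalizer_of_normal _ _)
  rw [top_inf_eq, sup_comm] at hF
  have h4 := H01.card_sup_mul_card_inf (normalizer (Q : Set G)) N
  rw [hF, card_top, ← (normalizer (Q : Set G)).card_mul_index, mul_assoc] at h4
  have h5 := Nat.eq_of_mul_eq_mul_left Nat.card_pos h4
  have h6 : ¬ p ∣ (normalizer (Q : Set G)).index := fun e => hpN (h5 ▸ e.mul_right _)
  have h7 : p ∣ # (normalizer (Q : Set G)) := by
    rw [← (normalizer (Q : Set G)).card_mul_index] at hpG
    exact ((Nat.Prime.dvd_mul hp.out).1 hpG).resolve_right h6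
  haveI := h _ hM h3.normalizer h7
  obtain ⟨T, hT⟩ := exists_isSyl p (normalizer (Q : Set G))
  have hT' : IsSyl p T ⊤ := isSyl_of_not_dvd le_top hT.pg (by
    rw [relIndex_top_right, ← relIndex_mul_index hT.le]
    exact fun e => ((Nat.Prime.dvd_mul hp.out).1 e).elim hT.not_dvd h6)
  have h8 : Q ≤ centralizer (T : Set G) := fun x hx =>
    centralizer_of_coprime_of_nilpotent hT.pg hT.le (le_normalizer hx) (by
      obtain ⟨k, hk⟩ := hQ.pg.exists_card_eq
      exact Nat.Coprime.coprime_dvd_left (hk ▸ Q.orderOf_dvd_natCard hx)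
        (((Nat.coprime_primes hq hp.out).2 hqp).pow_left k))
  obtain ⟨g, -, rfl⟩ := hT'.exists_cj_eq hP
  have h9 := hQ.cj g
  rw [cj_eq_of_normal g N] at h9
  have h10 : cj(g, Q) ≤ centralizer (cj(g, T) : Set G) := by
    rw [← cj_centralizer]; exact cj_mono g h8
  exact h9.not_dvd (hd.trans (relIndex_dvd_of_le_left N h10))

theorem main [Sol A] {p : ℕ} (hp : p.Prime) (n : ℕ) :
    ∀ (G : Type v) [Group G] [Finite G] (φ : A →* MulAut G), # G = n → (# A).Coprime (# G) → p ∣ # G →
      (∀ H : Subgroup G, H ≠ ⊤ → Inv φ H → p ∣ # H → Nil H) → Sol G := by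
  induction n using Nat.strong_induction_on with
  | _ n ih =>
  intro G _ _ φ hn hc hpG h
  haveI := Fact.mk hp
  by_cases h0 : ∃ N : Subgroup G, N.Normal ∧ Inv φ N ∧ Sol N ∧ N ≠ ⊥
  · obtain ⟨N, hN, h1, h2, h3⟩ := h0
    have hs := QuotientGroup.mk'_surjective N
    have hc' := hc.coprime_dvd_right (card_quotient_dvd_card N)
    have key : ∀ H : Subgroup (G ⧸ N), H ≠ ⊤ → Inv (quotAct φ N h1) H →
        p ∣ # (H.comap (QuotientGroup.mk' N)) → Nil H := fun H h4 h5 h6 => by
      haveI := h (H.comap (QuotientGroup.mk' N)) (fun e => h4 (by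
        rw [← map_comap_eq_self_of_surjective hs H, e, map_top_of_surjective _ hs]))
        (h1.comap_quot h5) h6
      rw [← map_comap_eq_self_of_surjective hs H]
      exact isNilpotent_map _ _
    haveI : Sol (G ⧸ N) := by
      by_cases h4 : p ∣ # (G ⧸ N)
      · refine ih _ (hn ▸ H01.card_quotient_lt N h3) (G ⧸ N) (quotAct φ N h1) rfl hc' h4
          fun H h5 h6 h7 => key H h5 h6 (h7.trans ?_)
        conv_lhs => rw [← map_comap_eq_self_of_surjective hs H]
        exact card_map_dvd _ _
      · refine Cfsg.Agent.S4240.solv _ _ (quotAct φ N h1) rfl hc' fun H h5 h6 => key H h5 h6 ?_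
        rw [card_eq_card_quotient_mul_card_subgroup N] at hpG
        refine (((Nat.Prime.dvd_mul hp).1 hpG).resolve_left h4).trans (card_dvd_of_le fun x hx => ?_)
        rw [mem_comap, QuotientGroup.mk'_apply, (QuotientGroup.eq_one_iff x).2 hx]
        exact one_mem _
    exact H02.isSolvable_of_normal_of_quotient N
  push Not at h0
  refine simple_case hc hp hpG h fun N hN h1 h2 => ?_
  by_contra h3
  have h4 : ¬ p ∣ # N := fun e => h2 (h0 N hN h1 (by haveI := h N h3 h1 e; infer_instance))
  obtain ⟨P, hP, h5, -⟩ := exists_inv_isSyl (φ := φ) (K := ⊤) (by rwa [card_top])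
    (Or.inl inferInstance) inv_top inv_bot (IsPGroup.of_bot (p := p)) bot_le
  have h6 := hP.ne_bot (by rwa [card_top])
  have h7 := le_cent hc hpG h h0 h1 h4 hP
  by_cases h8 : N ⊔ P = ⊤
  · refine h6 (h0 P (normal_of_top_le ?_) h5 (sol_pg hP.pg))
    rw [← h8]
    exact sup_le (h7.trans (H26.centralizer_le_normalizer _)) le_normalizer
  · haveI := h _ h8 (h1.sup h5) (dvd_card_of_isPGroup hP.pg h6 le_sup_right)
    haveI : Nil N := Group.nilpotent_of_mulEquiv (subgroupOfEquivOfLe (le_sup_left : N ≤ N ⊔ P))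
    exact h2 (h0 N hN h1 inferInstance)

end H02.Inv
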