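import Mathlib
import Cfsg.Agent.BG.Api4
import Cfsg.Agent.H08.Klein
import Cfsg.Agent.L.SL2Loc
import Cfsg.Agent.L.PSL2Tr
import Cfsg.Agent.L.PSL2Max4

/-!
# Centralisers in `PSL₂(q)` (light imports), four-groups and redundant Sylow subgroups
-/

set_option linter.unusedSectionVars false
set_option linter.unusedVariables false

namespace H02.L3

open Cfsg BG Subgroup L L.Dk
open scoped MatrixGroups

local notation "#" => Nat.card

variable {F : Type*} [Field F] [Fintype F]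

theorem cent_eq_of_comap {c : PSL(2, F)} {T : Subgroup SL(2, F)}
    (h : (C_[c]).comap (QuotientGroup.mk' _) = T) : C_[c] = T.map (QuotientGroup.mk' _) := by
  rw [← h, map_comap_eq_self_of_surjective (QuotientGroup.mk'_surjective _)]

/-- The centraliser of a unipotent element. -/
structure CU (p : ℕ) (c : PSL(2, F)) : Prop where
  pow : ∀ x ∈ C_[c], x ^ p = 1
  ab : IsMulCommutative C_[c]
  card : # C_[c] = Fintype.card F

/-- The centraliser of a semisimple element which is not an involution in odd characteristic. -/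
structure CS (c : PSL(2, F)) : Prop where
  cyc : IsCyclic C_[c]
  card : dd F * # C_[c] = Fintype.card F - 1 ∨ dd F * # C_[c] = Fintype.card F + 1
  ne : Fintype.card F % 2 = 0 ∨ c * c ≠ 1

/-- The centraliser of an involution in odd characteristic. -/
structure CI (c : PSL(2, F)) (T : Subgroup PSL(2, F)) : Prop where
  odd : Fintype.card F % 2 = 1
  ord : orderOf c = 2
  le : T ≤ C_[c]
  cyc : IsCyclic T
  mem : c ∈ T
  card : # C_[c] = 2 * # T
  cardT : 2 * # T = Fintype.card F - 1 ∨ 2 * # T = Fintype.card F + 1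
  sq : ∀ x ∈ C_[c], x ∉ T → x * x = 1

theorem two_ne_iff : (2 : F) ≠ 0 ↔ Fintype.card F % 2 = 1 := by rw [← odd_card_iff, Nat.odd_iff]

theorem dd_two (h : (2 : F) ≠ 0) : dd F = 2 := ((dd_cases (F := F)).resolve_left (by rw [two_ne_iff] at h; omega)).2

theorem dd_one (h : (2 : F) = 0) : dd F = 1 :=
  ((dd_cases (F := F)).resolve_right (fun e => two_ne_iff.2 e.1 h)).2

theorem cent_cases (p : ℕ) [Fact p.Prime] [CharP F p] {c : PSL(2, F)} (hc : c ≠ 1) :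
    CU p c ∨ CS c ∨ ∃ T, CI c T := by
  obtain ⟨s, rfl⟩ := QuotientGroup.mk_surjective c
  have hs := mk_ne_one_iff.1 hc
  by_cases h4 : (s : M2 F).trace ^ 2 = 4
  · have h0 : (2 : F) = 0 ∨ (s : M2 F).trace ≠ 0 := by
      by_contra! h
      exact four_ne_zero' h.1 (by rw [← h4, h.2]; ring)
    have e : C_[(QuotientGroup.mk s : PSL(2, F))] = torusBar s := cent_eq_of_comap (comap_centralizer_of_trace h0)
    refine Or.inl ⟨?_, ?_, ?_⟩ <;> rw [e]
    · rintro _ ⟨y, hy, rfl⟩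
      by_cases h1 : IsScal (y : M2 F)
      · have : (QuotientGroup.mk y : PSL(2, F)) = 1 := by by_contra h; exact mk_ne_one_iff.1 h h1
        rw [QuotientGroup.mk'_apply, this, one_pow]
      · refine mk_pow_char p ?_
        by_contra h
        exact trace_sq_ne_of_mem h (mem_centralizer_singleton_iff.2 (mem_centralizer_singleton_iff.1 hy).symm) hs h4
    · refine abelian_iff.2 ?_
      rintro _ ⟨x, hx, rfl⟩ _ ⟨y, hy, rfl⟩
      rw [← map_mul, ← map_mul, mul_comm_of_mem_centralizer hs hx hy]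
    · apply Nat.eq_of_mul_eq_mul_left (dd_pos (F := F))
      rw [card_torusBar]
      by_cases h2 : (2 : F) = 0
      · rw [dd_one h2, one_mul]
        refine card_centralizer_SL_par_two h2 hs (pow_eq_zero_iff two_ne_zero |>.1 ?_)
        rw [h4]; linear_combination 2 * h2
      · rw [dd_two h2, card_centralizer_SL_par h2 hs h4]
  by_cases h0 : (2 : F) = 0 ∨ (s : M2 F).trace ≠ 0
  · have e : C_[(QuotientGroup.mk s : PSL(2, F))] = torusBar s := cent_eq_of_comap (comap_centralizer_of_trace h0)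
    refine Or.inr (Or.inl ⟨e ▸ isCyclic_torusBar h4, e ▸ card_torusBar' h4, ?_⟩)
    by_cases h2 : (2 : F) = 0
    · left; by_contra h; exact two_ne_iff.2 (by omega) h2
    · refine Or.inr fun h => ?_
      rw [mk_mul_mk] at h
      have h5 : IsScal ((s * s : SL(2, F)) : M2 F) := by by_contra h'; exact mk_ne_one_iff.2 h' h
      rw [SL2_coe_mul, m2_sq, show (s : M2 F).trace • (s : M2 F) - (s : M2 F).det • (1 : M2 F) =
        (-(s : M2 F).det) • (1 : M2 F) + (s : M2 F).trace • (s : M2 F) by rw [neg_smul]; abel, isScal_lin_iff hs] at h5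
      exact h0.resolve_left h2 h5
  · push Not at h0
    have e : C_[(QuotientGroup.mk s : PSL(2, F))] = torusNBar s :=
      cent_eq_of_comap (comap_centralizer_of_trace_zero h0.1 h0.2)
    refine Or.inr (Or.inr ⟨torusBar s, two_ne_iff.1 h0.1, orderOf_eq_prime_iff.2 ⟨(sq _).trans ?_, hc⟩, e ▸ torusBar_le s,
      isCyclic_torusBar h4, ⟨s, mem_centralizer_singleton_iff.2 rfl, rfl⟩, e ▸ card_torusNBar h4,
      by have := card_torusBar' h4; rwa [dd_two h0.1] at this, ?_⟩)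
    · rw [mk_mul_mk, sq_eq_neg_one_of_trace h0.2, H09.PSL2.mk_eq_one_iff]; exact Or.inr rfl
    · rw [e]
      rintro _ ⟨x, hx, rfl⟩ hg
      show QuotientGroup.mk (x * x) = (1 : PSL(2, F))
      rw [sq_eq_neg_one_of_notMem h4 hx (fun h => hg ⟨x, h, rfl⟩), H09.PSL2.mk_eq_one_iff]
      exact Or.inr rfl

theorem CS.not_dvd (p : ℕ) [hp : Fact p.Prime] [CharP F p] {c : PSL(2, F)} (h : CS c) : ¬ p ∣ # C_[c] := fun d => by
  have h1 := char_dvd_card (F := F) p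
  have h2 : 1 ≤ Fintype.card F := Fintype.card_pos
  rcases h.card with e | e <;> have h3 := e ▸ d.mul_left (dd F)
  · exact hp.out.not_dvd_one ((Nat.dvd_sub_iff_right h2 h1).1 h3)
  · exact hp.out.not_dvd_one ((Nat.dvd_add_right h1).1 h3)

theorem cu_of_pow (p : ℕ) [hp : Fact p.Prime] [CharP F p] {c : PSL(2, F)} (hc : c ≠ 1) (h : c ^ p = 1) : CU p c := by
  have ho := orderOf_eq_prime h hc
  obtain h1 | h1 | ⟨T, h1⟩ := cent_cases p hc
  · exact h1
  · exact absurd (ho ▸ orderOf_dvd_natCard _ (mem_centralizer_singleton_iff.2 rfl)) (h1.not_dvd p)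
  · have h2 := char_dvd_card (F := F) p
    have := h1.odd
    rw [← ho, h1.ord] at h2
    omega

theorem exists_cu (p : ℕ) [hp : Fact p.Prime] [CharP F p] : ∃ c : PSL(2, F), orderOf c = p ∧ CU p c := by
  obtain ⟨c, hc⟩ := exists_orderOf_char (F := F) p
  exact ⟨c, hc, cu_of_pow p (fun e => hp.out.one_lt.ne (by rw [← hc, e, orderOf_one])) (hc ▸ pow_orderOf_eq_one c)⟩

theorem inv_conj (h2 : (2 : F) ≠ 0) {x y : PSL(2, F)} (hx : orderOf x = 2) (hy : orderOf y = 2) : IsConj x y := by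
  have k : ∀ s : L.SL2 F, orderOf (QuotientGroup.mk s : PSL(2, F)) = 2 → (s : L.M2 F).trace = 0 := by
    intro s hs
    have h5 := pow_orderOf_eq_one (QuotientGroup.mk s : PSL(2, F))
    rw [hs, ← QuotientGroup.mk_pow, H09.PSL2.mk_eq_one_iff, sq] at h5
    have h6 : ¬ (s = 1 ∨ s = -1) := fun e => by
      rw [H09.PSL2.mk_eq_one_iff.2 e, orderOf_one] at hs; omega
    refine (Matrix.trace_fin_two _).trans (H09.SL2.trace_eq_zero_of_mul_self (h5.resolve_left fun e => h6 ?_))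
    by_cases e1 : s = 1
    exacts [Or.inl e1, Or.inr (H09.SL2.eq_neg_one_of_mul_self h2 e1 e)]
  obtain ⟨s, rfl⟩ := QuotientGroup.mk_surjective x
  obtain ⟨t, rfl⟩ := QuotientGroup.mk_surjective y
  exact (QuotientGroup.mk' _).map_isConj (L.isConj_SL_of_disc (trace_sq_ne_of_zero h2 (k s hx)) ((k s hx).trans (k t hy).symm))

section Abs

universe u

variable {G : Type u} [Group G] [Finite G] {t s x y : G} {T V W : Subgroup G} {n : ℕ}

structure IC (t : G) (T : Subgroup G) : Prop where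
  ord : orderOf t = 2
  le : T ≤ C_[t]
  cyc : IsCyclic T
  mem : t ∈ T
  card : # C_[t] = 2 * # T
  sq : ∀ x ∈ C_[t], x ∉ T → x * x = 1

structure DC (G : Type u) [Group G] (n : ℕ) : Prop where
  ex : ∃ t : G, orderOf t = 2
  conj : ∀ x y : G, orderOf x = 2 → orderOf y = 2 → IsConj x y
  ic : ∀ t : G, orderOf t = 2 → ∃ T, IC t T ∧ # T = n

theorem ord2 : orderOf x = 2 ↔ x * x = 1 ∧ x ≠ 1 := by rw [orderOf_eq_prime_iff, sq]

namespace IC
variable (h : IC t T)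
include h

theorem eq_t (hx : x ∈ T) (h2 : x * x = 1) : x = 1 ∨ x = t := or_iff_not_imp_left.2 fun h1 => by
  have e := eq_of_card_eq_of_cyclic h.cyc (zpowers_le.2 hx) (zpowers_le.2 h.mem)
    (by rw [BG.card_zpowers, BG.card_zpowers, h.ord, ord2.2 ⟨h2, h1⟩])
  obtain ⟨i, hi⟩ := mem_zpowers_iff.1 (e.le (mem_zpowers x))
  rw [← zpow_mod_orderOf, h.ord] at hi
  rcases Int.emod_two_eq_zero_or_one i with k | k <;> simp_all

theorem mul_mem' (hx : x ∈ C_[t]) (hy : y ∈ C_[t]) (h1 : x ∉ T) (h2 : y ∉ T) : x * y ∈ T := by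
  have := card_mul_relIndex h.le
  rw [h.card, mul_comm] at this
  exact (mul_mem_iff_of_index_two (Nat.eq_of_mul_eq_mul_right Nat.card_pos this) (a := ⟨x, hx⟩) (b := ⟨y, hy⟩)).2 (iff_of_false h1 h2)

theorem inv (hs : s ∈ C_[t]) (h1 : s ∉ T) (hx : x ∈ T) : s * x * s⁻¹ = x⁻¹ := by
  have := h.sq _ (mul_mem hs (h.le hx)) fun k => h1 ((mul_mem_cancel_right hx).1 k)
  rw [inv_eq_of_mul_eq_one_right (h.sq s hs h1), eq_inv_iff_mul_eq_one, mul_assoc, this]

theorem mem_of (hs : s ∈ C_[t]) (h1 : s ∉ T) (hx : x ∈ C_[t]) (hc : s * x = x * s) : x ∈ Subgroup.closure {t, s} := by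
  have k {x : G} (hx : x ∈ T) (hc : s * x = x * s) : x ∈ Subgroup.closure {t, s} := by
    have := h.inv hs h1 hx
    rw [hc, mul_inv_cancel_right, eq_inv_iff_mul_eq_one] at this
    rcases h.eq_t hx this with rfl | rfl
    exacts [one_mem _, subset_closure (by simp)]
  by_cases e : x ∈ T
  · exact k e hc
  · exact (mul_mem_cancel_right (subset_closure (by simp))).1 (k (h.mul_mem' hx hs e h1) (by rw [← mul_assoc, hc]))

theorem iff : orderOf s = 2 ∧ t ≠ s ∧ Commute t s ↔ s ∈ C_[t] ∧ s ∉ T :=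
  ⟨fun ⟨a, b, c⟩ => ⟨mem_cent1.2 c.symm, fun k => (h.eq_t k (ord2.1 a).1).elim (ord2.1 a).2 b.symm⟩, fun ⟨a, b⟩ =>
    ⟨ord2.2 ⟨h.sq s a b, fun e => b (e ▸ one_mem _)⟩, fun e => b (e ▸ h.mem), (mem_cent1.1 a).symm⟩⟩

end IC

theorem card_fib {α β : Type*} [Finite α] [Finite β] (f : α → β) (n : ℕ) (h : ∀ b, # {a // f a = b} = n) : # α = # β * n := by
  haveI := Fintype.ofFinite β
  rw [← Nat.card_congr (Equiv.sigmaFiberEquiv f), Nat.card_sigma]
  simp [h]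

theorem card_six {α : Type*} (h : # α = 4) (o : α) : # {z : α × α // z.1 ≠ o ∧ z.2 ≠ o ∧ z.1 ≠ z.2} = 6 := by
  haveI := Nat.finite_of_card_ne_zero (h ▸ by norm_num : # α ≠ 0)
  have e := Finite.equivFinOfCardEq h
  have k : ∀ o : Fin 4, Fintype.card {z : Fin 4 × Fin 4 // z.1 ≠ o ∧ z.2 ≠ o ∧ z.1 ≠ z.2} = 6 := by decide
  rw [← k (e o), ← Nat.card_eq_fintype_card]
  exact Nat.card_congr ((e.prodCongr e).subtypeEquiv fun z => by simp)

theorem card_range {β : Type*} (f : G → β) (H : Subgroup G) (h : ∀ a b, f a = f b ↔ a⁻¹ * b ∈ H) : # (Set.range f) = H.index := by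
  refine (Nat.card_eq_of_bijective (fun q : G ⧸ H => Quotient.liftOn' q (fun a => (⟨f a, a, rfl⟩ : Set.range f))
    fun a b e => Subtype.ext ((h a b).2 (QuotientGroup.leftRel_apply.1 e))) ⟨fun a b e => ?_, fun ⟨_, a, rfl⟩ => ⟨a, rfl⟩⟩).symm
  obtain ⟨a, rfl⟩ := QuotientGroup.mk_surjective a
  obtain ⟨b, rfl⟩ := QuotientGroup.mk_surjective b
  exact QuotientGroup.eq.2 ((h a b).1 (congrArg Subtype.val e))

theorem conj_eq_iff {a b : G} : a * t * a⁻¹ = b * t * b⁻¹ ↔ a⁻¹ * b ∈ C_[t] := by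
  rw [mem_cent1, eq_comm, ← mul_left_inj a, ← mul_right_inj a⁻¹, ← mul_left_inj (a⁻¹ * b)]
  simp [mul_assoc]

theorem DC.count (h : DC G n) : 12 * # {V : Subgroup G // IsKleinFour V} = # G := by
  let A := {z : G × G // orderOf z.1 = 2 ∧ orderOf z.2 = 2 ∧ z.1 ≠ z.2 ∧ Commute z.1 z.2}
  have h1 := card_fib (α := A) (β := {V : Subgroup G // IsKleinFour V})
    (fun z => ⟨_, H08.isKleinFour_closure z.2.1 z.2.2.1 z.2.2.2.1 z.2.2.2.2⟩) 6 fun ⟨V, hV⟩ => by
    rw [← card_six hV.card_four 1]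
    refine (Nat.card_eq_of_bijective (fun z => ⟨⟨(z.1.1, z.1.2), H08.orderOf_of_mem_klein hV z.1.1.2 (by simpa using z.2.1),
      H08.orderOf_of_mem_klein hV z.1.2.2 (by simpa using z.2.2.1), by simpa using z.2.2.2,
      H08.commute_of_mem_klein hV z.1.1.2 z.1.2.2⟩, Subtype.ext (H08.klein_eq_closure hV z.1.1.2 z.1.2.2
        (by simpa using z.2.1) (by simpa using z.2.2.1) (by simpa using z.2.2.2)).symm⟩) ⟨fun a b e => ?_, ?_⟩).symm
    · have := Prod.mk.inj (congrArg (fun z => z.1.1) e)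
      exact Subtype.ext (Prod.ext (Subtype.ext this.1) (Subtype.ext this.2))
    · rintro ⟨⟨⟨a, b⟩, h1, h2, h3, h4⟩, e⟩
      obtain rfl := congrArg Subtype.val e
      exact ⟨⟨(⟨a, subset_closure (by simp)⟩, ⟨b, subset_closure (by simp)⟩), by simpa using (ord2.1 h1).2,
        by simpa using (ord2.1 h2).2, by simpa using h3⟩, rfl⟩
  have h2 := card_fib (α := A) (β := {t : G // orderOf t = 2}) (fun z => ⟨_, z.2.1⟩) n fun ⟨t, ht⟩ => by
    obtain ⟨T, k, rfl⟩ := h.ic t ht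
    have := Set.ncard_diff (s := (T : Set G)) (t := (C_[t] : Set G)) k.le
    rw [← Nat.card_coe_set_eq, ← Nat.card_coe_set_eq, ← Nat.card_coe_set_eq, SetLike.coe_sort_coe, SetLike.coe_sort_coe, k.card,
      two_mul, Nat.add_sub_cancel] at this
    rw [← this]
    refine (Nat.card_eq_of_bijective (fun z => ⟨⟨(t, z.1), ht, k.iff.2 z.2⟩, rfl⟩) ⟨fun a b e => ?_, ?_⟩).symm
    · exact Subtype.ext (congrArg (fun z => z.1.1.2) e)
    · rintro ⟨⟨⟨a, b⟩, h1, h2⟩, e⟩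
      obtain rfl := congrArg Subtype.val e
      exact ⟨⟨b, k.iff.1 h2⟩, rfl⟩
  obtain ⟨t, ht⟩ := h.ex
  obtain ⟨T, k, rfl⟩ := h.ic t ht
  have h3 : # {t : G // orderOf t = 2} = (C_[t]).index := by
    rw [← card_range (fun g => g * t * g⁻¹) C_[t] fun a b => conj_eq_iff]
    exact Nat.card_congr (Equiv.subtypeEquivRight fun x =>
      ⟨fun a => isConj_iff.1 (h.conj _ _ ht a), fun ⟨g, a⟩ => a ▸ (BG.orderOf_conj g t).trans ht⟩)
  rw [← (C_[t]).card_mul_index, k.card, ← h3, mul_assoc, mul_comm (# T), ← h2, h1]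
  ring

theorem DC.swap (h : DC G n) (h4 : 4 ∣ n) (hV : IsKleinFour V) (hx : x ∈ V) (hy : y ∈ V) (x1 : x ≠ 1) (y1 : y ≠ 1) (e : x ≠ y) :
    ∃ ρ ∈ N_(V), ρ ∈ C_[x] ∧ ρ * y * ρ⁻¹ = x * y := by
  obtain ⟨T, k, rfl⟩ := h.ic x (H08.orderOf_of_mem_klein hV hx x1)
  obtain ⟨X, X1, X2⟩ := exists_le_card_pow (n := 2) Nat.prime_two h4
  obtain ⟨ρ, rfl⟩ := cyclic_iff.1 (cyclic_of_le k.cyc X1)
  have h1 := zpowers_le.1 X1
  rw [BG.card_zpowers] at X2
  obtain ⟨a, b⟩ := k.iff.1 ⟨H08.orderOf_of_mem_klein hV hy y1, e, H08.commute_of_mem_klein hV hx hy⟩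
  have h2 : ρ * ρ = x := (k.eq_t (mul_mem h1 h1) (by rw [← sq, ← sq, ← pow_mul]; exact orderOf_dvd_iff_pow_eq_one.1 X2.dvd)).resolve_left
    fun c => by have := orderOf_dvd_of_pow_eq_one ((sq ρ).trans c); rw [X2] at this; omega
  have h3 : ρ * y * ρ⁻¹ = x * y := by
    rw [← h2, mul_assoc, mul_assoc, ← mul_inv_eq_iff_eq_mul.1 ((k.inv a b (inv_mem h1)).trans (inv_inv ρ))]
  have h5 : ρ * x * ρ⁻¹ = x := mul_inv_eq_iff_eq_mul.2 (mem_cent1.1 (k.le h1))
  refine ⟨ρ, mem_norm_of_cj_le ?_, k.le h1, h3⟩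
  rw [H08.klein_eq_closure hV hx hy x1 y1 e, cj_eq_map, MonoidHom.map_closure, closure_le, ← H08.klein_eq_closure hV hx hy x1 y1 e]
  rintro _ ⟨z, rfl | rfl, rfl⟩
  exacts [(congrArg (· ∈ V) h5).mpr hx, (congrArg (· ∈ V) h3).mpr (mul_mem hx hy)]

theorem DC.norm (h : DC G n) (h4 : 4 ∣ n) (hV : IsKleinFour V) : # N_(V) = 24 := by
  obtain ⟨a, b, ha, hb, e, c, hV'⟩ := H08.exists_klein_gens hV
  obtain ⟨a2, a1⟩ := ord2.1 ha
  obtain ⟨b2, b1⟩ := ord2.1 hb
  have k {x : G} : x ∈ V ↔ x = 1 ∨ x = a ∨ x = b ∨ x = a * b := hV' ▸ H08.mem_closure_klein a2 b2 c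
  have aV : a ∈ V := k.2 (by simp)
  have bV : b ∈ V := k.2 (by simp)
  have ab1 := H08.mul_ne_one_of_invol ha e
  have ab : V ≤ N_(V) ⊓ C_[a] := le_inf (le_norm _) fun x hx => mem_cent1.2 (H08.commute_of_mem_klein hV hx aV)
  have h1 := card_range (fun g : N_(V) => g.1 * a * g.1⁻¹) ((N_(V) ⊓ C_[a]).subgroupOf _) fun x y => by
    rw [inf_subgroupOf_left]; exact conj_eq_iff
  have h2 := card_range (fun g : ↥(N_(V) ⊓ C_[a]) => g.1 * b * g.1⁻¹) (V.subgroupOf _) fun x y => by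
    obtain ⟨T, t, -⟩ := h.ic a ha
    obtain ⟨t1, t2⟩ := t.iff.1 ⟨hb, e, c⟩
    exact conj_eq_iff.trans ⟨fun k => hV'.ge (t.mem_of t1 t2 (x⁻¹ * y).2.2 (mem_cent1.1 k).symm),
      fun k => mem_cent1.2 (H08.commute_of_mem_klein hV k bV)⟩
  have r1 : Set.range (fun g : N_(V) => g.1 * a * g.1⁻¹) = {a, b, a * b} := Set.ext fun x => ⟨by
    rintro ⟨g, rfl⟩
    exact (k.1 (conj_mem_of_norm g.2 aV)).resolve_left (by simpa), by
    rintro (rfl | rfl | rfl)
    · exact ⟨1, by simp⟩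
    · obtain ⟨ρ, h1, -, h2⟩ := h.swap h4 hV (mul_mem aV bV) aV ab1 a1 (by simpa)
      exact ⟨⟨ρ, h1⟩, h2.trans (by rw [c.eq, mul_assoc, a2, mul_one])⟩
    · obtain ⟨ρ, h1, -, h2⟩ := h.swap h4 hV bV aV b1 a1 e.symm
      exact ⟨⟨ρ, h1⟩, h2.trans c.eq.symm⟩⟩
  have r2 : Set.range (fun g : ↥(N_(V) ⊓ C_[a]) => g.1 * b * g.1⁻¹) = {b, a * b} := Set.ext fun x => ⟨by
    rintro ⟨g, rfl⟩
    refine ((k.1 (conj_mem_of_norm g.2.1 bV)).resolve_left (by simpa)).resolve_left fun k => e ?_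
    rw [mul_inv_eq_iff_eq_mul, ← mem_cent1.1 g.2.2] at k
    exact (mul_left_cancel k).symm, by
    rintro (rfl | rfl)
    · exact ⟨1, by simp⟩
    · obtain ⟨ρ, h1, h2, h3⟩ := h.swap h4 hV aV bV a1 b1 e
      exact ⟨⟨ρ, h1, h2⟩, h3⟩⟩
  rw [r1, Nat.card_coe_set_eq, Set.ncard_eq_three.2 ⟨_, _, _, e, by simpa, by simpa, rfl⟩] at h1
  rw [r2, Nat.card_coe_set_eq, Set.ncard_pair (by simpa)] at h2
  rw [← card_mul_relIndex (inf_le_left : N_(V) ⊓ C_[a] ≤ _), ← card_mul_relIndex ab, relIndex, relIndex, ← h1, ← h2, hV.card_four]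

theorem DC.two (h : DC G n) (h4 : 4 ∣ n) : ∃ V₁ V₂ : Subgroup G, IsKleinFour V₁ ∧ IsKleinFour V₂ ∧ (¬ ∃ g, V₂ = cj g V₁) ∧
    ∀ W : Subgroup G, IsKleinFour W → (∃ g, W = cj g V₁) ∨ ∃ g, W = cj g V₂ := by
  have c : 12 * {V : Subgroup G | IsKleinFour V}.ncard = # G := h.count
  have k (V : Subgroup G) (hV : IsKleinFour V) : 2 * (Set.range fun g => cj g V).ncard = {V : Subgroup G | IsKleinFour V}.ncard := by
    have := (N_(V)).card_mul_index
    rw [← card_range (fun g => cj g V) _ fun a b => eq_comm.trans cj_eq_cj_iff, h.norm h4 hV, Nat.card_coe_set_eq] at this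
    omega
  have s (V : Subgroup G) (hV : IsKleinFour V) : (Set.range fun g => cj g V) ⊆ {V : Subgroup G | IsKleinFour V} := by
    rintro _ ⟨g, rfl⟩; exact H08.isKleinFour_map_conj hV g
  have p : 0 < # G := Nat.card_pos
  obtain ⟨V, hV⟩ := Set.nonempty_of_ncard_ne_zero (s := {V : Subgroup G | IsKleinFour V}) (by omega)
  have kV := k V hV
  obtain ⟨W, hW, e⟩ := Set.exists_mem_notMem_of_ncard_lt_ncard (s := Set.range fun g => cj g V)
    (t := {V : Subgroup G | IsKleinFour V}) (by omega)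
  have kW := k W hW
  refine ⟨V, W, hV, hW, fun ⟨g, a⟩ => e ⟨g, a.symm⟩, fun U hU => ?_⟩
  have := Set.eq_of_subset_of_ncard_le (Set.union_subset (s V hV) (s W hW)) (by
    rw [Set.ncard_union_eq (Set.disjoint_left.2 ?_)]; omega
    rintro _ ⟨a, rfl⟩ ⟨b, c⟩
    exact e ⟨b⁻¹ * a, (BG.cj_cj _ _ _).symm.trans (cj_eq_iff.1 c).symm⟩)
  exact (this.ge hU).imp (fun ⟨g, a⟩ => ⟨g, a.symm⟩) fun ⟨g, a⟩ => ⟨g, a.symm⟩

/-- every `p`-element lies in two Sylow `p`-subgroups -/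
def Red (p : ℕ) (G : Type u) [Group G] : Prop :=
  ∀ x : G, (∃ k, orderOf x = p ^ k) → ∃ P Q : Sylow p G, P ≠ Q ∧ x ∈ P ∧ x ∈ Q

variable {p : ℕ} [hp : Fact p.Prime]

theorem red_iff : (∃ Q : Sylow p G, ∀ x : G, (∃ k : ℕ, orderOf x = p ^ k) → ∃ P : Sylow p G, P ≠ Q ∧ x ∈ P) ↔ Red p G := by
  refine ⟨fun ⟨Q, h⟩ x ⟨k, hk⟩ => ?_, fun h => ⟨default, fun x hx => ?_⟩⟩
  · obtain ⟨R, hR⟩ := (pg_of_card ((BG.card_zpowers x).trans hk)).exists_le_sylow
    obtain ⟨g, rfl⟩ := MulAction.exists_smul_eq G Q R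
    obtain ⟨P, h1, h2⟩ := h (g⁻¹ * x * g⁻¹⁻¹) ⟨k, (BG.orderOf_conj _ _).trans hk⟩
    exact ⟨g • P, g • Q, fun e => h1 (MulAction.injective g e), (mem_cj (X := P.1)).2 (by rw [inv_inv] at h2; exact h2), hR (mem_zpowers x)⟩
  · obtain ⟨P, Q, h1, h2, h3⟩ := h x hx
    exact (eq_or_ne P default).elim (fun e => ⟨Q, e ▸ h1.symm, h3⟩) fun e => ⟨P, e, h2⟩

theorem not_red (hx : IsPGroup p (zpowers x)) (h : ∀ P : Sylow p G, x ∈ P → P.1 = V) : ¬ Red p G := fun k => by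
  obtain ⟨P, Q, h1, h2, h3⟩ := k x ((pg_card hp.out hx).imp fun k e => (BG.card_zpowers x).symm.trans e)
  exact h1 (Sylow.ext ((h P h2).trans (h Q h3).symm))

theorem not_red_cyc (P : Sylow p G) (h : IsCyclic P) : ¬ Red p G := by
  obtain ⟨x, hx⟩ := cyclic_iff.1 h
  exact not_red (V := P) (hx ▸ P.2) fun Q k => P.3 Q.2 (hx ▸ zpowers_le.2 k)

theorem exists_cen (P : Sylow p G) (h : P.1 ≠ ⊥) : ∃ z, orderOf z = p ∧ P.1 ≤ C_[z] := by
  obtain ⟨z, h1, h2⟩ := exists_orderOf_eq_prime hp.out (pg_dvd hp.out (pg_le P.2 inf_le_left) (pg_center_ne_bot hp.out P.2 h))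
  exact ⟨z, h2, fun g hg => mem_cent1.2 (h1.2 g hg)⟩

theorem red_map {H : Type*} [Group H] [Finite H] (f : G →* H) (hf : Function.Surjective f) (hk : f.ker ≤ center G) :
    Red p G ↔ Red p H := by
  have k (P : Sylow p G) {x : G} (hx : IsPGroup p (zpowers x)) (h : f x ∈ P.1.map f) : x ∈ P := by
    refine zpowers_le.1 ((isSylowIn_top hp.out P).le_of_norm_pg' hp.out hx le_top (zpowers_le.2 ?_))
    obtain ⟨y, hy, e⟩ := h
    exact (mul_mem_cancel_left (inv_mem (le_norm _ hy))).1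
      (center_le_normalizer _ (hk (by rw [MonoidHom.mem_ker, map_mul, map_inv, e, inv_mul_cancel])))
  refine ⟨fun h y ⟨j, hj⟩ => ?_, fun h x ⟨j, hj⟩ => ?_⟩
  · obtain ⟨R, hR⟩ := (pg_of_card ((BG.card_zpowers y).trans hj)).exists_le_sylow
    obtain ⟨R, rfl⟩ := Sylow.mapSurjective_surjective hf p R
    obtain ⟨x, hx, rfl⟩ := hR (mem_zpowers y)
    obtain ⟨P, Q, h1, h2, h3⟩ := h x ((pg_card hp.out (pg_le R.2 (zpowers_le.2 hx))).imp fun k e => (BG.card_zpowers x).symm.trans e)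
    refine ⟨P.mapSurjective hf, Q.mapSurjective hf, fun e => h1 (Sylow.ext (Q.3 P.2 fun z hz =>
      k P (pg_le Q.2 (zpowers_le.2 hz)) ?_)), mem_map_of_mem f h2, mem_map_of_mem f h3⟩
    exact (congrArg Sylow.toSubgroup e).ge (mem_map_of_mem f hz)
  · have hx := pg_of_card ((BG.card_zpowers x).trans hj)
    obtain ⟨P, Q, h1, h2, h3⟩ := h (f x) (((Nat.dvd_prime_pow hp.out).1 (hj ▸ orderOf_map_dvd f x)).imp fun _ => And.right)
    obtain ⟨P, rfl⟩ := Sylow.mapSurjective_surjective hf p P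
    obtain ⟨Q, rfl⟩ := Sylow.mapSurjective_surjective hf p Q
    exact ⟨P, Q, fun e => h1 (e ▸ rfl), k P hx h2, k Q hx h3⟩

theorem DC.red (h : DC G n) : Red 2 G ↔ ¬ ∃ k, n = 2 ^ k := by
  obtain ⟨t, ht⟩ := h.ex
  refine ⟨fun r ⟨k, hk⟩ => ?_, fun hn x ⟨j, hj⟩ => ?_⟩
  · obtain ⟨T, c, e⟩ := h.ic t ht
    obtain ⟨x, rfl⟩ := cyclic_iff.1 c.cyc
    have x1 : x ≠ 1 := by rintro rfl; exact (ord2.1 ht).2 (by simpa using c.mem)
    refine not_red (V := C_[t]) (pg_of_card (e.trans hk)) (fun P hx => ?_) r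
    obtain ⟨z, z1, z2⟩ := exists_cen P fun e => x1 (mem_bot.1 (e.le hx))
    obtain ⟨U, d, e'⟩ := h.ic z z1
    rw [← P.3 (pg_of_card (n := k + 1) (by rw [d.card, e', hk, pow_succ'])) z2]
    by_cases a : x ∈ U
    · obtain rfl := eq_of_le_of_card_ge (zpowers_le.2 a) (e'.trans e.symm).le
      rw [(d.eq_t c.mem (ord2.1 ht).1).resolve_left (ord2.1 ht).2]
    obtain rfl := (c.eq_t (mem_zpowers x) (d.sq x (z2 hx) a)).resolve_left x1
    obtain ⟨-, b1, b2⟩ := d.iff.2 ⟨z2 hx, a⟩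
    have k1 : Subgroup.closure {z, x} ≤ C_[z] ⊓ C_[x] :=
      (closure_le _).2 (Set.insert_subset ⟨mem_cent1.2 rfl, mem_cent1.2 b2⟩
        (Set.singleton_subset_iff.2 ⟨mem_cent1.2 b2.symm, mem_cent1.2 rfl⟩))
    have k2 := (H08.isKleinFour_closure z1 ht b1 b2).card_four
    rw [BG.card_zpowers, ht] at e
    rw [← eq_of_le_of_card_ge (k1.trans inf_le_left) (by rw [k2, d.card, e', ← e]),
      eq_of_le_of_card_ge (k1.trans inf_le_right) (by rw [k2, c.card, BG.card_zpowers, ht])]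
  have hx := pg_of_card ((BG.card_zpowers x).trans hj)
  obtain ⟨t, T, c, xT, rfl⟩ : ∃ t T, IC t T ∧ x ∈ T ∧ # T = n := by
    by_cases x1 : x = 1
    · obtain ⟨T, c, e⟩ := h.ic t ht
      exact ⟨t, T, c, x1 ▸ one_mem _, e⟩
    obtain ⟨t, t1, t2⟩ := exists_orderOf_eq_prime Nat.prime_two (pg_dvd Nat.prime_two hx (BG.zpowers_ne_bot x1))
    obtain ⟨T, c, e⟩ := h.ic t t2
    refine ⟨t, T, c, by_contra fun k => k ?_, e⟩
    have := ord2.2 ⟨c.sq x (mem_cent1.2 (commute_of_mem_zpowers (mem_zpowers x) t1)) k, x1⟩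
    exact zpowers_le.1 ((eq_of_le_of_card_ge (zpowers_le.2 t1) (by rw [BG.card_zpowers, BG.card_zpowers, this, t2])).ge.trans
      (zpowers_le.2 c.mem))
  obtain ⟨P, hP⟩ : ∃ P : Sylow 2 G, P.1 ≤ C_[t] := by
    obtain ⟨z, z1, z2⟩ := exists_cen (default : Sylow 2 G) ((isSylowIn_top Nat.prime_two _).ne_bot' Nat.prime_two
      (c.ord ▸ BG.orderOf_dvd_card (mem_top t)))
    obtain ⟨g, rfl⟩ := isConj_iff.1 (h.conj _ _ z1 c.ord)
    exact ⟨g • default, cj_cent1 g z ▸ cj_le_cj_iff.2 z2⟩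
  have ab := fun {a b : G} => mul_comm_of_abelian (x := a) (y := b) (abelian_of_cyclic c.cyc)
  have xP : x ∈ P := zpowers_le.1 ((isSylowIn_top Nat.prime_two P).le_of_norm_pg Nat.prime_two hx le_top fun s hs =>
    mem_norm_of_cj_le (by
      rw [cj_zpowers, zpowers_le]
      by_cases k : s ∈ T
      · rw [ab k xT, mul_inv_cancel_right]; exact mem_zpowers x
      · rw [c.inv (hP hs) k xT]; exact inv_mem (mem_zpowers x)))
  obtain ⟨l, hl, l1, l2⟩ : ∃ l, l.Prime ∧ l ∣ # T ∧ l ≠ 2 := by_contra fun k => hn ⟨_, Nat.eq_prime_pow_of_unique_prime_dvd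
    Nat.card_pos.ne' fun a b => by_contra fun e => k ⟨_, a, b, e⟩⟩
  obtain ⟨u, u1, rfl⟩ := exists_orderOf_eq_prime hl l1
  refine ⟨P, u • P, fun e => ?_, xP, mem_cj.2 (by rwa [mul_assoc, ab xT u1, inv_mul_cancel_left])⟩
  obtain ⟨s, s1, s2⟩ := SetLike.not_le_iff_exists.1 fun k : P.1 ≤ T => (isSylowIn_top Nat.prime_two P).not_dvd' Nat.prime_two (by
    have := card_mul_relIndex c.le
    rw [c.card, mul_comm] at this
    exact (Nat.eq_of_mul_eq_mul_right Nat.card_pos this).symm.dvd.trans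
      ((relIndex_dvd_right c.le le_top).trans (relIndex_dvd_left _ k)))
  have := mul_mem ((congrArg Sylow.toSubgroup e).ge (conj_mem_cj u s1)) (inv_mem s1)
  rw [mul_assoc, mul_assoc, ← mul_assoc s, c.inv (hP s1) s2 (inv_mem u1), inv_inv, ← sq] at this
  refine pg_not_dvd hl Nat.prime_two P.2 l2 (Dvd.dvd.trans ?_ (BG.orderOf_dvd_card this))
  rw [((Nat.coprime_primes hl Nat.prime_two).2 l2).orderOf_pow]

end Abs

theorem psl_dc (h : Odd (Fintype.card F)) : ∃ n, DC PSL(2, F) n ∧ 2 ∣ n ∧ (2 * n = Fintype.card F - 1 ∨ 2 * n = Fintype.card F + 1) := by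
  have h2 := two_ne_iff.2 (Nat.odd_iff.1 h)
  obtain ⟨l, hl⟩ := CharP.exists F
  obtain ⟨m, hl', hm⟩ := FiniteField.card F l
  haveI := Fact.mk hl'
  have k (t : PSL(2, F)) (ht : orderOf t = 2) : ∃ T, CI t T := by
    refine ((cent_cases l (ord2.1 ht).2).resolve_left fun c => ?_).resolve_left fun c => ?_
    · obtain rfl := (Nat.prime_dvd_prime_iff_eq Nat.prime_two hl').1 (ht ▸ orderOf_dvd_of_pow_eq_one (c.pow t (mem_cent1.2 rfl)))
      exact h2 (CharP.cast_eq_zero F 2)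
    · exact c.ne.elim (by have := Nat.odd_iff.1 h; omega) fun e => e (ord2.1 ht).1
  obtain ⟨t, ht⟩ := exists_prime_orderOf_dvd_card' (G := PSL(2, F)) 2 (by
    have := card_psl (F := F)
    rw [dd_two h2] at this
    obtain ⟨a, ha⟩ := h
    rw [ha, show (2 * a + 1) ^ 2 = 4 * (a * a + a) + 1 by ring, Nat.add_sub_cancel] at this
    exact ⟨(2 * a + 1) * (a * a + a), Nat.eq_of_mul_eq_mul_left two_pos (this.trans (by ring))⟩)
  obtain ⟨T, c⟩ := k t ht
  refine ⟨# T, ⟨⟨t, ht⟩, fun _ _ => inv_conj h2, fun s hs => ?_⟩, ht.symm.dvd.trans (BG.orderOf_dvd_card c.mem), c.cardT⟩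
  obtain ⟨U, d⟩ := k s hs
  obtain ⟨g, rfl⟩ := isConj_iff.1 (inv_conj h2 ht hs)
  exact ⟨U, ⟨d.ord, d.le, d.cyc, d.mem, d.card, d.sq⟩, Nat.eq_of_mul_eq_mul_left two_pos (by rw [← d.card, ← c.card, ← cj_cent1, BG.card_cj])⟩

theorem klein_conj (h : Fintype.card F % 8 = 3 ∨ Fintype.card F % 8 = 5) {V W : Subgroup PSL(2, F)} (hV : IsKleinFour V)
    (hW : IsKleinFour W) : ∃ g, W = cj g V := by
  have k {V : Subgroup PSL(2, F)} (hV : IsKleinFour V) : IsSylowIn 2 V ⊤ :=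
    isSylowIn_mk Nat.prime_two le_top (H08.isPGroup_of_isKleinFour hV) fun ⟨a, ha⟩ => by
      have h1 := card_mul_relIndex (le_top : V ≤ ⊤)
      have h2 := card_psl (F := F)
      rw [dd_two (two_ne_iff.2 (by omega)), ← card_top, ← h1, ha, hV.card_four] at h2
      have h3 : Fintype.card F * (Fintype.card F ^ 2 - 1) % 16 ≠ 0 := by
        have : 1 ≤ Fintype.card F ^ 2 := Nat.one_le_pow _ _ Fintype.card_pos
        have e : (Fintype.card F ^ 2 - 1) % 16 = 8 := by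
          have : Fintype.card F ^ 2 % 16 = 9 := by
            have : Fintype.card F % 16 = 3 ∨ Fintype.card F % 16 = 11 ∨ Fintype.card F % 16 = 5 ∨ Fintype.card F % 16 = 13 := by omega
            rcases this with e | e | e | e <;> rw [Nat.pow_mod, e]
          omega
        have : Fintype.card F % 16 = 3 ∨ Fintype.card F % 16 = 11 ∨ Fintype.card F % 16 = 5 ∨ Fintype.card F % 16 = 13 := by omega
        rcases this with f | f | f | f <;> rw [Nat.mul_mod, e, f] <;> norm_num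
      omega
  exact (sylow_trans Nat.prime_two (k hV) (k hW)).imp fun g a => a.2

theorem psl_red (p : ℕ) [hp : Fact p.Prime] : Red p PSL(2, F) ↔ p = 2 ∧ (¬ ∃ k : ℕ, Fintype.card F + 1 = 2 ^ k) ∧
    (¬ ∃ k : ℕ, Fintype.card F = 2 ^ k) ∧ ¬ ∃ k : ℕ, Fintype.card F = 2 ^ k + 1 := by
  obtain ⟨l, hl⟩ := CharP.exists F
  obtain ⟨m, hl', hm⟩ := FiniteField.card F l
  haveI := Fact.mk hl'
  by_cases e : p = l
  · subst e
    refine iff_of_false ?_ fun k => k.2.2.1 ⟨m, k.1 ▸ hm⟩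
    obtain ⟨x, x1, x2⟩ := exists_cu (F := F) p
    refine not_red (V := C_[x]) (pg_of_card_eq ((BG.card_zpowers x).trans x1)) fun P hx => (P.3 (pg_of_pow x2.pow) ?_).symm
    obtain ⟨z, z1, z2⟩ := exists_cen P fun e => hl'.ne_one (by rw [← x1, mem_bot.1 (e.le hx), orderOf_one])
    have := cu_of_pow p (fun e => hl'.ne_one (by rw [← z1, e, orderOf_one])) (z1 ▸ pow_orderOf_eq_one z)
    exact fun y hy => mem_cent1.2 (mul_comm_of_abelian this.ab (z2 hy) (z2 hx))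
  by_cases p2 : p = 2
  swap
  · refine iff_of_false (not_red_cyc default ?_) fun k => p2 k.1
    by_cases b : (default : Sylow p PSL(2, F)).1 = ⊥
    · rw [b]; infer_instance
    obtain ⟨z, z1, z2⟩ := exists_cen _ b
    rcases cent_cases l (c := z) (fun e => hp.out.ne_one (by rw [← z1, e, orderOf_one])) with c | c | ⟨T, c⟩
    · exact absurd ((Nat.prime_dvd_prime_iff_eq hp.out hl').1 (z1 ▸ orderOf_dvd_of_pow_eq_one (c.pow z (mem_cent1.2 rfl)))) e
    · exact cyclic_of_le c.cyc z2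
    · exact absurd (z1.symm.trans c.ord) p2
  subst p2
  have ho : Odd (Fintype.card F) := hm ▸ (hl'.odd_of_ne_two (Ne.symm e)).pow
  obtain ⟨n, h, h2, h3⟩ := psl_dc ho
  have q1 : 1 < Fintype.card F := Fintype.one_lt_card
  rw [Nat.odd_iff] at ho
  rw [h.red, ← not_or, ← not_or, eq_self, true_and]
  refine not_congr ⟨fun ⟨k, hk⟩ => h3.elim (fun e => .inr (.inr ⟨k + 1, by omega⟩)) fun e => .inl ⟨k + 1, by omega⟩, ?_⟩
  rintro (⟨k, hk⟩ | ⟨k, hk⟩ | ⟨k, hk⟩) <;> rcases k with _ | _ | k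
  all_goals first | omega | exact ⟨1, by omega⟩ | exact ⟨k + 1, by omega⟩

end H02.L3
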