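import Mathlib
import Cfsg.Agent.H18.E27a

/-! The group `3³ : S₄`: model and finite checks. -/

set_option autoImplicit false

open Cfsg H05 Subgroup H18.Col H18.Col.S27

namespace H02.Pr

def tm : ℕ := 963083904067687740382735603551689790147753333418677730851915356374567097974957112575863131996239068055923001004403506150795281191190920846141744853349985126505427498725276702117869127575727930333969630230266788003694818243872477377286486892174864225286507265199805722399513218724366521145231041304945935782458849498836985413339277262656543733815870597513957888108524598833545755037078744427520723529335585824425723682293446964617925868942572772314561998565413250558024005584205178041195721112450911944985254980831311300737842154825946411835640822693186939405523677139322961202011889075464832150459845881892697145867523939936971093167672118517404002720525875751366839575021710876658696210406344600236528194449607891204522884717127757952986887367704934359527340708609740998571683450709658446377951332934764400421412397882957658075244984472824790822941658012205549600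
def ti : ℕ := 982224427065455782826412183800350752
def ta : ℕ := 62224691395888686967266458860737499485442046059236634966495547528
def tc : ℕ := 1427001741132480524657458214187675960061179597630398939457036288923751441459719247875870773628143177940503231160819914680979586017034869406376713049828927412550831167217252166209435959881236906268319327458507606889770752608925859097194991269776542568187491109590509936282879049535484133999070002965043829082583135701632577168950205585247058368983909332013885872851373711559064223515200624705516639576249924896790292810662554055648558748348649719524469826653977123637966278286355734713902353142659462761041995055891338528431688398438245820694448940480000628379485536762622245752630543281649714014647371834084283730043774415255065978167651919084494474343770716821469267748232145138985352794764670178869532769176801074654445104530874096718256872023933614628234446032584759301261819913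

def D : Type := Fin 24
instance : Fintype D := inferInstanceAs (Fintype (Fin 24))
instance : DecidableEq D := inferInstanceAs (DecidableEq (Fin 24))
def dd (n : ℕ) : D := (⟨n % 24, Nat.mod_lt _ (by norm_num)⟩ : Fin 24)
def D.v (d : D) : ℕ := Fin.val (n := 24) d
instance : Mul D := ⟨fun a b => dd ((tm >>> (5 * (24 * a.v + b.v))) % 32)⟩
instance : One D := ⟨dd 0⟩
instance : Inv D := ⟨fun a => dd ((ti >>> (5 * a.v)) % 32)⟩
instance : Group D := Group.ofLeftAxioms (by decide +kernel) (by decide +kernel) (by decide +kernel)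

def co (v : V) (k : ℕ) : Z3 :=
  let x := if k % 4 = 0 then v.1 else if k % 4 = 1 then v.2.1 else v.2.2
  if k % 8 < 4 then x else x⁻¹
def act (d : D) (v : V) : V := (co v (ta >>> (9 * d.v)), co v (ta >>> (9 * d.v + 3)), co v (ta >>> (9 * d.v + 6)))

theorem act_mul : ∀ d e v, act (d * e) v = act d (act e v) := by decide +kernel
theorem act_one : ∀ v, act 1 v = v := by decide +kernel
theorem act_map : ∀ d v w, act d (v * w) = act d v * act d w := by decide +kernel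

def α : D →* MulAut V := MonoidHom.mk' (fun d =>
  { toFun := act d, invFun := act d⁻¹
    left_inv := fun v => by rw [← act_mul, inv_mul_cancel, act_one]
    right_inv := fun v => by rw [← act_mul, mul_inv_cancel, act_one]
    map_mul' := act_map d }) fun d e => MulEquiv.ext (act_mul d e)

abbrev K := V ⋊[α] D

instance : Fintype K := Fintype.ofEquiv _ SemidirectProduct.equivProd.symm

def z (n : ℕ) : Z3 := .ofAdd n
def rp : Fin 13 → K := ![⟨(z 1, z 0, z 0), dd 0⟩, ⟨(z 1, z 1, z 0), dd 0⟩, ⟨(z 1, z 1, z 1), dd 0⟩, ⟨(z 1, z 0, z 0), dd 1⟩, ⟨(z 1, z 1, z 0), dd 8⟩, ⟨(z 1, z 0, z 0), dd 5⟩, ⟨(z 2, z 0, z 0), dd 5⟩, ⟨(z 1, z 0, z 0), dd 12⟩, ⟨(z 2, z 0, z 0), dd 12⟩, ⟨(z 0, z 0, z 0), dd 0⟩, ⟨(z 0, z 0, z 0), dd 1⟩, ⟨(z 0, z 0, z 0), dd 5⟩, ⟨(z 0, z 0, z 0), dd 8⟩]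
def idx (x : K) : ℕ := x.left.1.toAdd.val + 3 * x.left.2.1.toAdd.val + 9 * x.left.2.2.toAdd.val + 27 * x.right.v
def cl (x : K) : Fin 13 := ⟨((tc >>> (4 * idx x)) % 16) % 13, Nat.mod_lt _ (by norm_num)⟩
def UJ (x : K) : Bool := x.right = 1
def UL (l : List ℕ) (x : K) : Bool := idx x ∈ l
def eL (l : List ℕ) (k : ℕ) (x : K) : ZMod 6 := (k * l.idxOf (idx x) : ℕ)
theorem m1 : MOk rp cl UJ (fun x => (2 * (0 * x.left.1.toAdd.val + 0 * x.left.2.1.toAdd.val + 0 * x.left.2.2.toAdd.val) : ℕ)) ⟨(z 0, z 0, z 0), dd 0⟩ ![12, 24, 16, 0, 0, 0, 0, 0, 0, 2, 0, 0, 0] 27 := by decide +kernel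
theorem m2 : MOk rp cl UJ (fun x => (2 * (1 * x.left.1.toAdd.val + 0 * x.left.2.1.toAdd.val + 0 * x.left.2.2.toAdd.val) : ℕ)) ⟨(z 0, z 0, z 0), dd 2⟩ ![6, 0, -8, 0, 0, 0, 0, 0, 0, 2, 0, 0, 0] 27 := by decide +kernel
theorem m3 : MOk rp cl UJ (fun x => (2 * (1 * x.left.1.toAdd.val + 1 * x.left.2.1.toAdd.val + 0 * x.left.2.2.toAdd.val) : ℕ)) ⟨(z 0, z 0, z 0), dd 3⟩ ![0, -6, 4, 0, 0, 0, 0, 0, 0, 2, 0, 0, 0] 27 := by decide +kernel
theorem m4 : MOk rp cl UJ (fun x => (2 * (1 * x.left.1.toAdd.val + 1 * x.left.2.1.toAdd.val + 1 * x.left.2.2.toAdd.val) : ℕ)) ⟨(z 0, z 0, z 0), dd 7⟩ ![-6, 6, -2, 0, 0, 0, 0, 0, 0, 2, 0, 0, 0] 27 := by decide +kernel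
def lg12 : List ℕ := [0, 136, 29, 108, 1, 137, 27, 109, 2, 135, 28, 110]
theorem m5 : MOk rp cl (UL lg12) (eL lg12 0) ⟨(z 0, z 0, z 0), dd 0⟩ ![4, 0, 0, 4, 0, 4, 4, 0, 0, 2, 2, 4, 0] 12 := by decide +kernel
theorem m6 : MOk rp cl (UL lg12) (eL lg12 1) ⟨(z 0, z 0, z 0), dd 2⟩ ![-2, 0, 0, -2, 0, 2, 2, 0, 0, 2, 2, -4, 0] 12 := by decide +kernel
theorem m7 : MOk rp cl (UL lg12) (eL lg12 2) ⟨(z 0, z 0, z 0), dd 2⟩ ![-2, 0, 0, -2, 0, -2, -2, 0, 0, 2, 2, 4, 0] 12 := by decide +kernel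
theorem m8 : MOk rp cl (UL lg12) (eL lg12 3) ⟨(z 0, z 0, z 0), dd 0⟩ ![4, 0, 0, 4, 0, -4, -4, 0, 0, 2, 2, -4, 0] 12 := by decide +kernel
def lg6 : List ℕ := [0, 220, 8, 216, 4, 224]
theorem m9 : MOk rp cl (UL lg6) (eL lg6 0) ⟨(z 0, z 0, z 0), dd 0⟩ ![0, 4, 0, 0, 4, 0, 0, 0, 0, 2, 0, 0, 2] 6 := by decide +kernel
theorem m10 : MOk rp cl (UL lg6) (eL lg6 2) ⟨(z 0, z 0, z 0), dd 3⟩ ![0, -2, 0, 0, -2, 0, 0, 0, 0, 2, 0, 0, 2] 6 := by decide +kernel
def lx : List ℕ := [0, 325, 436, 13, 338, 449, 26, 348, 450]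
theorem m11 : MOk rp cl (UL lx) (eL lx 0) ⟨(z 0, z 0, z 0), dd 0⟩ ![0, 0, 4, 0, 0, 0, 0, 12, 0, 2, 0, 0, 0] 9 := by decide +kernel
def ly : List ℕ := [0, 326, 440, 26, 349, 454, 13, 336, 441]
theorem m12 : MOk rp cl (UL ly) (eL ly 0) ⟨(z 0, z 0, z 0), dd 0⟩ ![0, 0, 4, 0, 0, 0, 0, 0, 12, 2, 0, 0, 0] 9 := by decide +kernel

def sw : List (List (Fin 9 × Fin 9)) := [[], [(3, 4), (6, 7)], [(0, 1), (6, 7)], [(0, 1), (3, 4)], [(3, 6), (4, 7), (5, 8), (6, 7)], [(3, 7), (4, 6), (5, 8), (6, 7)], [(0, 1), (3, 6), (4, 7), (5, 8)], [(0, 1), (3, 7), (4, 6), (5, 8)], [(0, 3), (1, 4), (2, 5), (6, 7)], [(0, 3), (1, 4), (2, 5), (3, 4)], [(0, 4), (1, 3), (2, 5), (3, 4)], [(0, 4), (1, 3), (2, 5), (6, 7)], [(0, 3), (1, 4), (2, 5), (3, 6), (4, 7), (5, 8)], [(0, 3), (1, 4), (2, 5), (3, 7), (4, 6), (5, 8)], [(0, 4), (1, 3), (2, 5), (3, 6), (4, 7), (5, 8)], [(0, 4), (1, 3), (2, 5), (3, 7), (4, 6), (5, 8)], [(0, 6), (1, 7), (2, 8), (3, 6), (4, 7), (5,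 8)], [(0, 6), (1, 7), (2, 8), (3, 7), (4, 6), (5, 8)], [(0, 7), (1, 6), (2, 8), (3, 7), (4, 6), (5, 8)], [(0, 7), (1, 6), (2, 8), (3, 6), (4, 7), (5, 8)], [(0, 6), (1, 7), (2, 8), (6, 7)], [(0, 6), (1, 7), (2, 8), (3, 4)], [(0, 7), (1, 6), (2, 8), (6, 7)], [(0, 7), (1, 6), (2, 8), (3, 4)]]
def ψ : D →* P9 := MonoidHom.mk' (fun d => ((sw.getD d.v []).map fun p => Equiv.swap p.1 p.2).prod) (by decide +kernel)
def θ : K →* P9 := SemidirectProduct.lift φ ψ fun d => MonoidHom.ext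
  ((by decide +kernel : ∀ d v, φ (α d v) = ψ d * φ v * (ψ d)⁻¹) d)

theorem θ_inj : ∀ x, θ x = 1 → x = 1 := by decide +kernel
def ks : K := ⟨1, dd 12⟩
def ku : K := ⟨1, dd 3⟩
def kt : K := ⟨1, dd 8⟩
theorem θ_gen : θ (rp 0) = Equiv.swap 0 1 * Equiv.swap 1 2 ∧
    θ ks = Equiv.swap 0 3 * Equiv.swap 3 6 * (Equiv.swap 1 4 * Equiv.swap 4 7) * (Equiv.swap 2 5 * Equiv.swap 5 8) ∧
    θ ku = Equiv.swap 0 1 * Equiv.swap 3 4 ∧ θ kt = Equiv.swap 0 3 * Equiv.swap 1 4 * Equiv.swap 2 5 * Equiv.swap 6 7 := by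
  decide +kernel
theorem V_gen : ∀ v : V, ∃ i j k : Fin 3, (SemidirectProduct.inl v : K) =
    rp 0 ^ i.val * (ks * rp 0 * ks⁻¹) ^ j.val * (ks⁻¹ * rp 0 * ks) ^ k.val := by decide +kernel
theorem D_gen : ∀ d : D, ∃ i j l : Fin 2, ∃ k : Fin 3, (SemidirectProduct.inr d : K) =
    ku ^ i.val * (ks * ku * ks⁻¹) ^ j.val * ks ^ k.val * kt ^ l.val := by decide +kernel
theorem D_three : ∀ d : D, d ^ 12 = 1 ∧ (d ^ 3 = 1 → (∀ g, (d * (g * d * g⁻¹)) ^ 3 = 1) → d = 1) := by decide +kernel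
theorem cardK : Fintype.card K = 648 := by decide +kernel

def wt (v : V) : ℕ := (if v.1 = 1 then 0 else 1) + (if v.2.1 = 1 then 0 else 1) + (if v.2.2 = 1 then 0 else 1)
theorem cen_V : ∀ v : V, (Finset.univ.filter fun y : K => y * ⟨v, 1⟩ = ⟨v, 1⟩ * y).card = [648, 108, 54, 81].getD (wt v) 0 := by
  decide +kernel
theorem conj_V : ∀ v w : V, [648, 108, 54, 81].getD (wt v) 0 = [648, 108, 54, 81].getD (wt w) 0 → ∃ d, act d v = w := by
  decide +kernel

def gm : Fin 9 → ℕ := ![108, 54, 81, 12, 6, 12, 12, 9, 9]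
def rq (i : Fin 9) : K := rp (i.castLE (by norm_num))
def ex : Fin 9 → ℕ := ![4, 4, 4, 4, 4, 4, 4, 3, 3]
theorem sp_rq : ∀ i, (rq i ^ ex i).right = 1 ∧ rq i ^ ex i ≠ 1 := by decide +kernel
theorem cen_rq : ∀ i, (Finset.univ.filter fun y => y * rq i = rq i * y).card = gm i := by decide +kernel
theorem nc_rq : ∀ i g, cl (g * rq i * g⁻¹) = i.castLE (by norm_num) := by decide +kernel
def od : Fin 13 → ℕ := ![3, 3, 3, 6, 6, 12, 12, 9, 9, 1, 2, 4, 2]
set_option synthInstance.maxSize 2000 in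
theorem rat_rp : ∀ j, j ≠ 5 → j ≠ 6 → rp j ^ od j = 1 ∧ ∀ k < od j, (∀ m < od j, 0 < m → rp j ^ m ≠ 1) ∧
    (k.Coprime (od j) → ∃ g, g * rp j * g⁻¹ = rp j ^ k) := by decide +kernel
theorem real_rp : (∃ g, g * rp 5 * g⁻¹ = (rp 5)⁻¹) ∧ ∃ g, g * rp 6 * g⁻¹ = (rp 6)⁻¹ := by decide +kernel
theorem cnt_D : ∀ i : Fin 3, ∑ d : D, (Finset.univ.filter fun e : D => act d (rp 0).left * act e (rp 1).left =
    (rp (i.castLE (by norm_num))).left).card = ![32, 16, 24] i := by decide +kernel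

end H02.Pr
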