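import Mathlib
import Cfsg.Agent.H05.Tu0

/-! Part I of the cluster for S4504: an irreducible section on which `x` acts non-trivially. -/

set_option autoImplicit false
open Module H05.Tu

namespace Cfsg.Agent.H02.TuI
universe u

theorem key {F : Type} [Field F] {G : Type u} [Group G] (x : G) (n : ℕ) : ∀ (V : Type) [AddCommGroup V] [Module F V]
    [FiniteDimensional F V], finrank F V ≤ n → ∀ σ : Representation F G V,
    (∃ (m : ℕ) (τ : Representation F G (Fin m → F)), m ≤ n ∧ τ x ≠ 1 ∧
      ∀ U : Submodule F (Fin m → F), (∀ g, ∀ v ∈ U, τ g v ∈ U) → U = ⊥ ∨ U = ⊤) ∨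
    ∀ g ∈ Subgroup.normalClosure {x}, IsNilpotent (σ g - 1) := by
  induction n using Nat.strong_induction_on with
  | _ n ih =>
  intro V _ _ _ hn σ
  by_cases irr : ∀ U : Submodule F V, (∀ g, ∀ v ∈ U, σ g v ∈ U) → U = ⊥ ∨ U = ⊤
  · by_cases hx : σ x = 1
    · refine .inr fun g i => ?_
      rw [show σ g = 1 from Subgroup.normalClosure_le_normal (N := σ.ker) (Set.singleton_subset_iff.2 hx) i, sub_self]
      exact IsNilpotent.zero
    let e := (Module.finBasis F V).equivFun
    let τ : Representation F G (Fin (finrank F V) → F) :=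
      { toFun := fun g => e.toLinearMap ∘ₗ σ g ∘ₗ e.symm.toLinearMap
        map_one' := LinearMap.ext fun v => by simp
        map_mul' := fun a b => LinearMap.ext fun v => by simp }
    have hτ : ∀ g v, τ g (e v) = e (σ g v) := fun g v => by
      show e (σ g (e.symm (e v))) = _
      rw [e.symm_apply_apply]
    refine .inl ⟨_, τ, hn, fun k => hx (LinearMap.ext fun v => e.injective (by rw [← hτ, k]; rfl)), fun U hU => ?_⟩
    refine (irr (U.comap e.toLinearMap) fun g v i => ?_).imp (fun k => eq_bot_iff.2 fun v i => ?_) fun k => eq_top_iff.2 fun v _ => ?_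
    · exact (show e (σ g v) ∈ U from hτ g v ▸ hU g _ i)
    · have : e.symm v ∈ U.comap e.toLinearMap := show e (e.symm v) ∈ U by rwa [e.apply_symm_apply]
      rw [k, Submodule.mem_bot] at this
      rw [← e.apply_symm_apply v, this, map_zero]; exact Submodule.zero_mem _
    · have : e (e.symm v) ∈ U := k.ge (Submodule.mem_top (x := e.symm v))
      rwa [e.apply_symm_apply] at this
  push Not at irr
  obtain ⟨U, hU, n0, n1⟩ := irr
  have l : ∀ g, U ≤ U.comap (σ g) := fun g v i => hU g v i
  have d1 := Submodule.finrank_lt n1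
  have d2 := U.finrank_quotient_add_finrank
  have d3 : finrank F U ≠ 0 := fun k => n0 (Submodule.finrank_eq_zero.1 k)
  rcases ih _ (show finrank F U < n by omega) U le_rfl (σ.subrepresentation U l) with ⟨m, τ, a, b⟩ | h1
  · exact .inl ⟨m, τ, by omega, b⟩
  rcases ih _ (show finrank F (V ⧸ U) < n by omega) (V ⧸ U) le_rfl (σ.quotient U l) with ⟨m, τ, a, b⟩ | h2
  · exact .inl ⟨m, τ, by omega, b⟩
  refine .inr fun g i => ?_
  obtain ⟨a, ha⟩ := h1 g i
  obtain ⟨b, hb⟩ := h2 g i
  have e1 : ∀ (k : ℕ) (u : U), ((((σ.subrepresentation U l) g - 1) ^ k) u : V) = ((σ g - 1) ^ k) u := fun k => by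
    induction k with
    | zero => exact fun _ => rfl
    | succ k j => intro u; rw [pow_succ, pow_succ, Module.End.mul_apply, Module.End.mul_apply, j]; rfl
  have e2 : ∀ (k : ℕ) (v : V), (((σ.quotient U l) g - 1) ^ k) (U.mkQ v) = U.mkQ (((σ g - 1) ^ k) v) := fun k => by
    induction k with
    | zero => exact fun _ => rfl
    | succ k j => intro v; rw [pow_succ, pow_succ, Module.End.mul_apply, Module.End.mul_apply, ← j]; rfl
  refine ⟨a + b, LinearMap.ext fun v => ?_⟩
  have m : ((σ g - 1) ^ b) v ∈ U := (Submodule.Quotient.mk_eq_zero U).1 ((e2 b v).symm.trans (by rw [hb]; rfl))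
  rw [pow_add, Module.End.mul_apply]
  exact (e1 a ⟨_, m⟩).symm.trans (by rw [ha]; rfl)

theorem i : IStmt.{u} := fun G _ _ p hp x s hN n σ hσ => by
  refine (key x n (Fin n → K p) (by simp) σ).resolve_right fun h => hN (Subgroup.normalClosure {x}) inferInstance ?_
  have pg : IsPGroup p (Subgroup.normalClosure {x}) := fun g => by
    obtain ⟨k, hk⟩ : ∃ k, σ ((g : G) ^ p ^ k) = 1 := by
      rcases subsingleton_or_nontrivial (Module.End (K p) (Fin n → K p)) with t | t
      · exact ⟨0, Subsingleton.elim _ _⟩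
      have : CharP (Module.End (K p) (Fin n → K p)) p := charP_of_injective_algebraMap (algebraMap (K p) _).injective p
      obtain ⟨a, ha⟩ := h g g.2
      refine ⟨a, ?_⟩
      have := sub_pow_char_pow_of_commute p a (Commute.one_right (σ g))
      rw [pow_eq_zero_of_le (Nat.lt_pow_self hp.out.one_lt).le ha, one_pow] at this
      rw [map_pow]; exact sub_eq_zero.1 this.symm
    obtain ⟨j, hj⟩ := hσ ⟨_, hk⟩
    have hj : ((g : G) ^ p ^ k) ^ p ^ j = 1 := congrArg Subtype.val hj
    exact ⟨k + j, Subtype.ext (by rw [pow_add, pow_mul]; exact hj)⟩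
  obtain ⟨k, hk⟩ := IsPGroup.iff_card.1 pg
  have a : p ∣ p ^ k := hk ▸ s.o ▸ Subgroup.orderOf_dvd_natCard _ (Subgroup.subset_normalClosure rfl)
  have b : ¬ p ^ 2 ∣ p ^ k := fun d => s.sq (d.trans (hk ▸ Subgroup.card_subgroup_dvd_card _))
  obtain _ | _ | k := k
  · exact absurd (Nat.dvd_one.1 a) hp.out.ne_one
  · rw [hk]; simp
  · exact absurd (pow_dvd_pow p (by omega)) b

end Cfsg.Agent.H02.TuI
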